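import Cfsg.Agent.Known.UnitOrders.Analysis
import Cfsg.Agent.Known.SympOrders.Spectrum
import Cfsg.Agent.Known.UnitarySemisimple
import Cfsg.Agent.Classical.Misc.UnitarySingerOrder
import Mathlib

/-!
Element orders of `PSU (n, q)` relative to a prime `r ∣ q + 1`, `r ∤ n`.
-/

set_option autoImplicit false
set_option linter.style.haveILetI false

open Matrix Cfsg.Lib.UnitaryConj

namespace Cfsg.Lib.UnitOrders

universe u

variable {F : Type u} [Field F] [Fintype F] {q n : ℕ}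

theorem exists_SU_of (hF : Fintype.card F = q ^ 2) (M : Matrix (Fin n) (Fin n) F)
    (h : cst (Classical.powConj hF) M * M = 1) (hd : M.det = 1) :
    ∃ X : Cfsg.SU n F q, ((X : SpecialLinearGroup (Fin n) F) : Matrix (Fin n) (Fin n) F) = M :=
  ⟨⟨⟨M, hd⟩, (mem_SU hF _).2 h⟩, rfl⟩

theorem mk_pow_eq_one_iff (hF : Fintype.card F = q ^ 2) (hn : 2 ≤ n) (X : Cfsg.SU n F q) (k : ℕ) :
    (X : Cfsg.PSU n F q) ^ k = 1 ↔
      ∃ a : F, ((X : SpecialLinearGroup (Fin n) F) : Matrix (Fin n) (Fin n) F) ^ k = a • 1 := by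
  have e : (((X ^ k : Cfsg.SU n F q) : SpecialLinearGroup (Fin n) F) : Matrix (Fin n) (Fin n) F) =
      ((X : SpecialLinearGroup (Fin n) F) : Matrix (Fin n) (Fin n) F) ^ k := by
    rw [SubgroupClass.coe_pow]; exact Matrix.SpecialLinearGroup.coe_pow _ _
  rw [← QuotientGroup.mk_pow, QuotientGroup.eq_one_iff, UnitarySingerOrder.mem_center_iff hF hn, e]
  refine ⟨fun ⟨a, _, h⟩ => ⟨a, h⟩, fun ⟨a, h⟩ => ⟨a, ?_, h⟩⟩
  have h1 := (mem_SU hF _).1 (X ^ k).2
  rw [e, h, cst_smul, cst_one, smul_one_mul, smul_smul] at h1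
  have h2 := congrArg (fun A : Matrix (Fin n) (Fin n) F => A ⟨0, by omega⟩ ⟨0, by omega⟩) h1
  simp [Classical.powConj_apply hF] at h2
  rw [mul_comm]
  exact h2

/-- A Hermitian idempotent commuting with an element lets one enlarge its order by `r`. -/
theorem enlarge (hF : Fintype.card F = q ^ 2) (hn : 2 ≤ n) {r : ℕ} (hr : r.Prime) (hrq : r ∣ q + 1) (hrn : ¬ r ∣ n)
    (X : Cfsg.SU n F q) (e : Matrix (Fin n) (Fin n) F) (he : cst (Classical.powConj hF) e = e) (hee : e * e = e)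
    (hc : Commute e ((X : SpecialLinearGroup (Fin n) F) : Matrix (Fin n) (Fin n) F)) (he0 : e ≠ 0) (he1 : e ≠ 1) :
    ∃ y : Cfsg.PSU n F q, orderOf (X : Cfsg.PSU n F q) ∣ orderOf y ∧ r ∣ orderOf y := by
  classical
  have := Fact.mk hr
  by_cases hrX : r ∣ orderOf (X : Cfsg.PSU n F q)
  · exact ⟨_, dvd_rfl, hrX⟩
  have hq2 := UnitarySingerOrder.q_two_le hF
  obtain ⟨ζ, hζ⟩ := exists_prime_orderOf_dvd_card' (G := Fˣ) r (by
    rw [Nat.card_units, Nat.card_eq_fintype_card, hF]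
    exact hrq.trans ⟨q - 1, by rw [← Nat.sq_sub_sq, one_pow]⟩)
  have hζr : (ζ : F) ^ r = 1 := by rw [← Units.val_pow_eq_pow_val, ← hζ, pow_orderOf_eq_one]; rfl
  have hpow : ∀ x : F, x ^ r = 1 → x ^ (q + 1) = 1 := fun x h => by
    obtain ⟨t, ht⟩ := hrq
    rw [ht, pow_mul, h, one_pow]
  set σ := Classical.powConj hF with hσ
  have hσu : ∀ x : F, x ^ r = 1 → σ x * x = 1 := fun x h => by
    rw [hσ, Classical.powConj_apply hF, ← pow_succ]; exact hpow x h
  let z0 : Matrix (Fin n) (Fin n) F := 1 + ((ζ : F) - 1) • e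
  have hz : ∀ k, z0 ^ k = 1 + ((ζ : F) ^ k - 1) • e := by
    intro k
    induction k with
    | zero => simp
    | succ k ih =>
      rw [pow_succ, ih]
      simp only [z0, mul_add, add_mul, one_mul, mul_one, smul_mul_assoc, mul_smul_comm, hee]
      module
  have hzr : z0 ^ r = 1 := by simp [hz, hζr]
  have hδ : z0.det ^ r = 1 := by rw [← det_pow, hzr, det_one]
  obtain ⟨t, -, ht⟩ := Nat.exists_mul_mod_eq_one_of_coprime ((hr.coprime_iff_not_dvd.2 hrn).symm) hr.one_lt
  let c : F := (z0.det ^ t)⁻¹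
  have hδn : c ^ n * z0.det = 1 := by
    have h1 : z0.det ^ (t * n) = z0.det := by
      conv_lhs => rw [← Nat.mod_add_div (t * n) r, mul_comm t n, ht, pow_add, pow_mul, hδ]
      simp
    simp only [c]
    rw [inv_pow, ← pow_mul, h1]
    refine inv_mul_cancel₀ fun h => ?_
    simp [h, zero_pow hr.ne_zero] at hδ
  have hcr : c ^ r = 1 := by
    simp only [c, inv_pow, ← pow_mul]
    rw [mul_comm, pow_mul, hδ, one_pow, inv_one]
  have hz0u : cst σ z0 * z0 = 1 := by
    have h1 : cst σ z0 = 1 + (σ ζ - 1) • e := by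
      simp only [z0, cst_add, cst_one, cst_smul, he, map_sub, map_one]
    have h2 := hσu _ hζr
    rw [h1]
    simp only [z0, mul_add, add_mul, one_mul, mul_one, smul_mul_assoc, mul_smul_comm, hee]
    linear_combination (norm := module) h2 • e
  obtain ⟨Z, hZ⟩ := exists_SU_of hF (c • z0)
    (by rw [cst_smul, smul_mul_assoc, mul_smul_comm, hz0u, smul_smul, hσu c hcr, one_smul])
    (by rw [det_smul, Fintype.card_fin]; exact hδn)
  have hcm : Commute X Z := by
    refine Subtype.ext (Subtype.ext ?_)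
    show ((X : SpecialLinearGroup (Fin n) F) : Matrix (Fin n) (Fin n) F) *
        ((Z : SpecialLinearGroup (Fin n) F) : Matrix (Fin n) (Fin n) F) =
      ((Z : SpecialLinearGroup (Fin n) F) : Matrix (Fin n) (Fin n) F) *
        ((X : SpecialLinearGroup (Fin n) F) : Matrix (Fin n) (Fin n) F)
    rw [hZ]
    exact ((((Commute.one_left _).add_left (hc.smul_left _)).smul_left c)).eq.symm
  have hZo : orderOf (Z : Cfsg.PSU n F q) = r := by
    refine orderOf_eq_prime ((mk_pow_eq_one_iff hF hn Z r).2 ⟨1, ?_⟩) fun h1 => ?_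
    · rw [hZ, _root_.smul_pow, hzr, hcr]
    · obtain ⟨d, hd⟩ := (mk_pow_eq_one_iff hF hn Z 1).1 (by rw [pow_one]; exact h1)
      rw [pow_one, hZ] at hd
      have hc0 : c ≠ 0 := fun h => by simp [h, zero_pow hr.ne_zero] at hcr
      have hζ1 : (ζ : F) - 1 ≠ 0 := by
        intro h
        have : ζ = 1 := Units.ext (sub_eq_zero.1 h)
        rw [this, orderOf_one] at hζ
        exact hr.one_lt.ne hζ
      set w := (c⁻¹ * d - 1) / ((ζ : F) - 1) with hw
      have hes : e = w • (1 : Matrix (Fin n) (Fin n) F) := by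
        have h2 : z0 = (c⁻¹ * d) • (1 : Matrix (Fin n) (Fin n) F) := by
          rw [← smul_smul, ← hd, smul_smul, inv_mul_cancel₀ hc0, one_smul]
        have h3 : ((ζ : F) - 1) • e = ((c⁻¹ * d) - 1) • (1 : Matrix (Fin n) (Fin n) F) := by
          rw [sub_smul (c⁻¹ * d), ← h2]; simp [z0]
        rw [hw, div_eq_inv_mul, ← smul_smul, ← h3, smul_smul, inv_mul_cancel₀ hζ1, one_smul]
      have hww : w * w = w := by
        have := congrArg (fun A : Matrix (Fin n) (Fin n) F => A ⟨0, by omega⟩ ⟨0, by omega⟩) hee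
        simpa [hes] using this
      rcases mul_eq_zero.1 (show w * (w - 1) = 0 by rw [mul_sub, hww, mul_one, sub_self]) with h | h
      · exact he0 (by rw [hes, h, zero_smul])
      · exact he1 (by rw [hes, sub_eq_zero.1 h, one_smul])
  refine ⟨(X : Cfsg.PSU n F q) * Z, ?_⟩
  have hcp : Commute (X : Cfsg.PSU n F q) Z := hcm.map (QuotientGroup.mk' _)
  rw [hcp.orderOf_mul_eq_mul_orderOf_of_coprime (by rw [hZo]; exact (hr.coprime_iff_not_dvd.2 hrX).symm), hZo]
  exact ⟨dvd_mul_right _ _, dvd_mul_left _ _⟩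

/-- An element of order divisible by `r`. -/
theorem exists_r_elt (hF : Fintype.card F = q ^ 2) (hn : 2 ≤ n) {r : ℕ} (hr : r.Prime) (hrq : r ∣ q + 1)
    (hrn : ¬ r ∣ n) : ∃ y : Cfsg.PSU n F q, r ∣ orderOf y := by
  classical
  let i : Fin n := ⟨0, by omega⟩
  obtain ⟨y, -, hy⟩ := enlarge hF hn hr hrq hrn 1 (Matrix.single i i (1 : F))
    (by simp [cst, Matrix.transpose_single]) (by simp) (Commute.one_right _)
    (fun h => by simpa using congrArg (fun A => A i i) h)
    (fun h => by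
      have := congrArg (fun A => A (⟨1, by omega⟩ : Fin n) (⟨1, by omega⟩ : Fin n)) h
      simp [Matrix.single, i, Fin.ext_iff] at this)
  exact ⟨y, hy⟩

section Unip

variable {p : ℕ} [Fact p.Prime] [CharP F p]

/-- A regular unipotent unitary matrix. -/
theorem exists_regular (hF : Fintype.card F = q ^ 2) {m : ℕ} (hm : 1 ≤ m) :
    ∃ U : Matrix (Fin m) (Fin m) F, cst (Classical.powConj hF) U * U = 1 ∧ U ^ p ^ Nat.clog p m = 1 ∧
      ∀ k, p ^ k < m → U ^ p ^ k ≠ 1 := by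
  classical
  haveI : Nonempty (Fin m) := ⟨⟨0, hm⟩⟩
  obtain ⟨U, hU, hT, -⟩ := exists_model (Classical.powConj hF) (invol hF) (exists_moved hF) (Nat.Partition.indiscrete m)
  have hsum : ∀ j, ∑ i, min j (UnipClasses.lens (Nat.Partition.indiscrete m) i) = min j m := fun j => by
    have h := congrArg (fun s : Multiset ℕ => (s.map (fun a => min j a)).sum)
      (UnipClasses.map_lens (Nat.Partition.indiscrete m))
    simp only [Multiset.map_map, Nat.Partition.indiscrete_parts (show m ≠ 0 by omega), Multiset.map_singleton,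
      Multiset.sum_singleton] at h
    rw [Finset.sum_eq_multiset_sum]
    exact h
  have h0 : (U - 1) ^ m = 0 := by
    have h := hT m
    rw [hsum, min_self] at h
    have hall : ∀ v : Fin m → F, (U - 1) ^ m *ᵥ v = 0 := by
      intro v
      by_contra hv
      have hlt := Finite.card_subtype_lt (p := fun v : Fin m → F => (U - 1) ^ m *ᵥ v = 0) hv
      rw [h, Nat.card_fun, Nat.card_fin] at hlt
      exact lt_irrefl _ hlt
    exact Matrix.ext_of_mulVec_single fun i => by rw [hall, zero_mulVec]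
  have h1 : (U - 1) ^ (m - 1) ≠ 0 := by
    intro he
    have h := hT (m - 1)
    rw [hsum, min_eq_left (by omega), he, Nat.card_congr (Equiv.subtypeUnivEquiv fun v => zero_mulVec v), Nat.card_fun,
      Nat.card_fin] at h
    have := Nat.pow_right_injective (Finite.one_lt_card : 1 < Nat.card F) h
    omega
  have hp := (Fact.out : p.Prime)
  have hpow : ∀ k, U ^ p ^ k = 1 ↔ (U - 1) ^ p ^ k = 0 := fun k => by
    rw [sub_pow_char_pow_of_commute p k (Commute.one_right _), one_pow, sub_eq_zero]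
  exact ⟨U, hU, (hpow _).2 (pow_eq_zero_of_le (Nat.le_pow_clog hp.one_lt m) h0),
    fun k hk h => h1 (pow_eq_zero_of_le (by omega) ((hpow k).1 h))⟩

/-- A unitary matrix of `p`-power order gives an element of `PSU` of the same order. -/
theorem orderOf_mk_of_ppow (hF : Fintype.card F = q ^ 2) (hn : 2 ≤ n) (U : Matrix (Fin n) (Fin n) F)
    (hU : cst (Classical.powConj hF) U * U = 1) {s : ℕ} (h1 : U ^ p ^ (s + 1) = 1) (h2 : U ^ p ^ s ≠ 1) :
    ∃ X : Cfsg.SU n F q, ((X : SpecialLinearGroup (Fin n) F) : Matrix (Fin n) (Fin n) F) = U ∧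
      orderOf (X : Cfsg.PSU n F q) = p ^ (s + 1) := by
  have hroot : ∀ c : F, c ^ p ^ (s + 1) = 1 → c = 1 := fun c hc => by
    have h : (c - 1) ^ p ^ (s + 1) = 0 := by rw [sub_pow_char_pow, hc, one_pow, sub_self]
    exact sub_eq_zero.1 (eq_zero_of_pow_eq_zero h)
  obtain ⟨X, hX⟩ := exists_SU_of hF U hU (hroot _ (by rw [← det_pow, h1, det_one]))
  refine ⟨X, hX, orderOf_eq_prime_pow (fun h => h2 ?_) ((mk_pow_eq_one_iff hF hn X _).2 ⟨1, by rw [hX, h1, one_smul]⟩)⟩
  obtain ⟨a, ha⟩ := (mk_pow_eq_one_iff hF hn X _).1 h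
  rw [hX] at ha
  have haa : a ^ p = 1 := by
    have h3 : (U ^ p ^ s) ^ p = 1 := by rw [← pow_mul, ← pow_succ, h1]
    rw [ha, _root_.smul_pow, one_pow] at h3
    have := congrArg (fun A : Matrix (Fin n) (Fin n) F => A ⟨0, by omega⟩ ⟨0, by omega⟩) h3
    simpa using this
  rw [ha, hroot a (by rw [pow_succ', pow_mul, haa, one_pow]), one_smul]

theorem exists_unip (hF : Fintype.card F = q ^ 2) (hn : 2 ≤ n) :
    ∃ u : Cfsg.PSU n F q, orderOf u = p ^ Nat.clog p n := by
  have hp := (Fact.out : p.Prime)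
  obtain ⟨U, hU, h1, h2⟩ := exists_regular (p := p) hF (show 1 ≤ n by omega)
  obtain ⟨s, hs⟩ := Nat.exists_eq_succ_of_ne_zero (Nat.clog_pos hp.one_lt hn).ne'
  rw [hs] at h1
  obtain ⟨X, -, hX⟩ := orderOf_mk_of_ppow hF hn U hU h1 (h2 s (by
    have := Nat.pow_pred_clog_lt_self hp.one_lt (show 1 < n by omega)
    rwa [hs, Nat.pred_succ] at this))
  exact ⟨_, by rw [hs]; exact hX⟩

theorem exists_unip_r (hF : Fintype.card F = q ^ 2) (hn : 3 ≤ n) {r : ℕ} (hr : r.Prime) (hrq : r ∣ q + 1)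
    (hrn : ¬ r ∣ n) (hne : ¬ ∃ j, n - 1 = p ^ j) :
    ∃ v : Cfsg.PSU n F q, p ^ Nat.clog p n ∣ orderOf v ∧ r ∣ orderOf v := by
  classical
  have hp := (Fact.out : p.Prime)
  obtain ⟨m, rfl⟩ : ∃ m, n = m + 1 := ⟨n - 1, by omega⟩
  rw [Nat.add_sub_cancel] at hne
  have hclog : Nat.clog p m = Nat.clog p (m + 1) := by
    refine le_antisymm (Nat.clog_mono_right p (by omega)) ((Nat.clog_le_iff_le_pow hp.one_lt).2 ?_)
    have h1 := Nat.le_pow_clog hp.one_lt m
    have h3 : p ^ Nat.clog p m ≠ m := fun e => hne ⟨_, e.symm⟩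
    omega
  obtain ⟨U, hU, h1, h2⟩ := exists_regular (p := p) hF (show 1 ≤ m by omega)
  obtain ⟨s, hs⟩ := Nat.exists_eq_succ_of_ne_zero (Nat.clog_pos hp.one_lt (show 2 ≤ m by omega)).ne'
  rw [hs] at h1
  have h2' := h2 s (by
    have := Nat.pow_pred_clog_lt_self hp.one_lt (show 1 < m by omega)
    rwa [hs, Nat.pred_succ] at this)
  let V := UnitarySemisimple.bd U (1 : Matrix (Fin 1) (Fin 1) F)
  have hV : cst (Classical.powConj hF) V * V = 1 := by
    rw [UnitarySemisimple.cst_bd, cst_one, UnitarySemisimple.bd_mul, hU, mul_one, UnitarySemisimple.bd_one]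
  obtain ⟨X, hX, hXo⟩ := orderOf_mk_of_ppow (p := p) hF (by omega) V hV (s := s)
    (by rw [UnitarySemisimple.bd_pow, h1, one_pow, UnitarySemisimple.bd_one]) (fun h => h2' (by
      rw [UnitarySemisimple.bd_pow, one_pow, ← UnitarySemisimple.bd_one (a := m) (b := 1)] at h
      simp only [UnitarySemisimple.bd] at h
      exact (Matrix.fromBlocks_inj.1 ((Matrix.reindex _ _).injective h)).1))
  obtain ⟨v, hv1, hv2⟩ := enlarge hF (by omega) hr hrq hrn X (UnitarySemisimple.bd 0 1)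
    (by rw [UnitarySemisimple.cst_bd, cst_one]; congr 1; ext; simp [cst])
    (by rw [UnitarySemisimple.bd_mul, zero_mul, one_mul])
    (by rw [hX]; show UnitarySemisimple.bd 0 1 * V = V * UnitarySemisimple.bd 0 1
        rw [UnitarySemisimple.bd_mul, UnitarySemisimple.bd_mul, zero_mul, mul_zero])
    (fun h => by
      simp only [UnitarySemisimple.bd] at h
      have h' := congrArg (fun A => A (finSumFinEquiv (Sum.inr 0)) (finSumFinEquiv (Sum.inr 0))) h
      simp at h')
    (fun h => by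
      rw [← UnitarySemisimple.bd_one (a := m) (b := 1)] at h
      simp only [UnitarySemisimple.bd] at h
      have h' := congrFun (congrFun (Matrix.fromBlocks_inj.1 ((Matrix.reindex _ _).injective h)).1 ⟨0, by omega⟩)
        ⟨0, by omega⟩
      simp at h')
  refine ⟨v, ?_, hv2⟩
  rw [← hclog, hs]
  exact hXo ▸ hv1

end Unip

section Torus

/-- The hermitian trace form on the field with `q ^ (2 n)` elements, `n` odd. -/
noncomputable def traceSpace (hF : Fintype.card F = q ^ 2) {n : ℕ} (hn : Odd n) (K : Type*) [Field K] [Fintype K]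
    [Algebra F K] (hK : Fintype.card K = q ^ (2 * n)) (τ : K →+* K) (hτ : ∀ x, τ x = x ^ q ^ n) :
    Classical.HermSpace F K where
  σ := Classical.powConj hF
  h u v := Algebra.trace F K (u * τ v)
  conj := Classical.powConj_isConj hF
  add_left x y z := by rw [add_mul, map_add]
  smul_left c x z := by rw [smul_mul_assoc, map_smul, smul_eq_mul]
  symm x y := by
    have hττ : τ (τ x) = x := by
      rw [hτ, hτ, ← pow_mul, ← pow_add, show n + n = 2 * n by ring, ← hK, FiniteField.pow_card]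
    have hc : ∀ a : F, τ (algebraMap F K a) = algebraMap F K (Classical.powConj hF a) := by
      intro a
      obtain ⟨k, rfl⟩ := hn
      rw [hτ, Classical.powConj_apply hF, ← map_pow, pow_succ, pow_mul, pow_mul]
      congr 1
      rw [← hF, FiniteField.pow_card_pow]
    let τe : K ≃+* K := RingEquiv.ofBijective τ ⟨τ.injective, Finite.surjective_of_injective τ.injective⟩
    let σe : F ≃+* F := RingEquiv.ofBijective (Classical.powConj hF)
      ⟨(Classical.powConj hF).injective, Finite.surjective_of_injective (Classical.powConj hF).injective⟩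
    have h := Algebra.trace_eq_of_equiv_equiv σe τe (RingHom.ext fun a => (hc a).symm) (y * τ x)
    have e1 : τe (y * τ x) = x * τ y := by
      show τ (y * τ x) = _
      rw [map_mul, hττ, mul_comm]
    rw [e1] at h
    show _ = σe _
    rw [h, RingEquiv.apply_symm_apply]
  nondeg v hv := by
    have h0 : τ v = 0 := (traceForm_nondegenerate F K).2 (τ v) fun x => hv x
    exact τ.injective (by rw [h0, map_zero])

theorem exists_torus (hF : Fintype.card F = q ^ 2) (p : ℕ) [Fact p.Prime] [CharP F p] (hn : 2 ≤ n) {L g : ℕ}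
    (hL : (L : ℤ) * (q + 1) = (q : ℤ) ^ n - (-1) ^ n) (hg : g = Nat.gcd L (q + 1)) :
    ∃ s : Cfsg.PSU n F q, L / g ∣ orderOf s := by
  classical
  have hq2 := UnitarySingerOrder.q_two_le hF
  rcases Nat.even_or_odd n with ⟨m, hm⟩ | hodd
  · obtain rfl : n = 2 * m := by omega
    have hT : L * (q + 1) = q ^ (2 * m) - 1 := by
      zify [Nat.one_le_pow (2 * m) q (by omega)]
      rw [hL, (even_two_mul m).neg_one_pow]
    obtain ⟨y, hy⟩ := UnitarySingerOrder.exists_singer (p := p) (d := g) hF (show 1 ≤ m by omega) hT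
      (hg ▸ Nat.gcd_dvd_left _ _) hg.symm
    exact ⟨y, hy ▸ dvd_rfl⟩
  haveI : NeZero n := ⟨by omega⟩
  let K := FiniteField.Extension F p n
  have hcK : Nat.card K = q ^ (2 * n) := by
    rw [FiniteField.natCard_extension, Nat.card_eq_fintype_card, hF, ← pow_mul]
  haveI : Finite K := Nat.finite_of_card_ne_zero (by rw [hcK]; exact pow_ne_zero _ (by omega))
  haveI := Fintype.ofFinite K
  haveI : CharP K p := charP_of_injective_algebraMap (algebraMap F K).injective p
  rw [Nat.card_eq_fintype_card] at hcK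
  obtain ⟨a, -, ha⟩ := UnitaryCommUnipotent.exists_q_eq_pow (p := p) hF
  let τ : K →+* K := iterateFrobenius K p (a * n)
  have hτ : ∀ x, τ x = x ^ q ^ n := fun x => by rw [ha, ← pow_mul]; exact iterateFrobenius_def p (a * n) x
  let H := traceSpace hF hodd K hcK τ hτ
  obtain ⟨e, he⟩ := H.exists_isometry (Classical.stdHerm n hF) rfl (by
    rw [Module.finrank_fin_fun, FiniteField.finrank_extension])
  let b : Module.Basis (Fin n) F K := Module.Basis.ofEquivFun e
  let Φ : K →ₐ[F] Matrix (Fin n) (Fin n) F := Algebra.leftMulMatrix b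
  have hΦ : ∀ x v, Φ x *ᵥ e v = e (x * v) := fun x v => Algebra.leftMulMatrix_mulVec_repr b x v
  have hLn : L * (q + 1) = q ^ n + 1 := by
    zify
    rw [hL, hodd.neg_one_pow, sub_neg_eq_add]
  have hdvd : L ∣ Nat.card Kˣ := by
    rw [Nat.card_units, Nat.card_eq_fintype_card, hcK, show q ^ (2 * n) - 1 = (q ^ n + 1) * (q ^ n - 1) by
      rw [← Nat.sq_sub_sq, one_pow, ← pow_mul, mul_comm n], ← hLn, mul_assoc]
    exact dvd_mul_right _ _
  obtain ⟨w, hw⟩ := IsCyclic.exists_ofOrder_eq_natCard (α := Kˣ)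
  obtain ⟨l, hl⟩ : ∃ l : Kˣ, orderOf l = L :=
    ⟨w ^ (orderOf w / L), orderOf_pow_orderOf_div (orderOf_pos w).ne' (hw ▸ hdvd)⟩
  have hlL : (l : K) ^ L = 1 := by rw [← Units.val_pow_eq_pow_val, ← hl, pow_orderOf_eq_one, Units.val_one]
  have hl1 : τ l * l = 1 := by rw [hτ, ← pow_succ, ← hLn, pow_mul, hlL, one_pow]
  have hU : cst (Classical.powConj hF) (Φ l) * Φ l = 1 := by
    refine (preserves_iff hF _).1 fun u v => ?_
    obtain ⟨u, rfl⟩ := e.surjective u
    obtain ⟨v, rfl⟩ := e.surjective v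
    rw [hΦ, hΦ, ← Classical.stdHerm_h hF, ← Classical.stdHerm_h hF, he, he]
    show Algebra.trace F K ((l : K) * u * τ ((l : K) * v)) = Algebra.trace F K (u * τ v)
    rw [map_mul τ, show (l : K) * u * (τ l * τ v) = τ l * l * (u * τ v) by ring, hl1, one_mul]
  have hd : (Φ l).det = 1 := by
    rw [← Algebra.norm_eq_matrix_det b]
    apply (algebraMap F K).injective
    rw [FiniteField.algebraMap_norm_eq_pow, map_one, Nat.card_eq_fintype_card, Nat.card_eq_fintype_card, hcK, hF]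
    obtain ⟨G, hG⟩ : q - 1 ∣ q ^ n - 1 := Nat.sub_one_dvd_pow_sub_one q n
    have : (q ^ (2 * n) - 1) / (q ^ 2 - 1) = L * G := by
      refine Nat.div_eq_of_eq_mul_left (by have := Nat.pow_le_pow_left hq2 2; omega) ?_
      rw [show q ^ (2 * n) - 1 = (q ^ n + 1) * (q ^ n - 1) by rw [← Nat.sq_sub_sq, one_pow, ← pow_mul, mul_comm n],
        ← hLn, hG, show q ^ 2 - 1 = (q + 1) * (q - 1) by rw [← Nat.sq_sub_sq, one_pow]]
      ring
    rw [this, pow_mul, hlL, one_pow]
  obtain ⟨X, hX⟩ := exists_SU_of hF (Φ l) hU hd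
  refine ⟨(X : Cfsg.PSU n F q), ?_⟩
  obtain ⟨c, hc⟩ := (mk_pow_eq_one_iff hF hn X _).1 (pow_orderOf_eq_one (X : Cfsg.PSU n F q))
  set o := orderOf (X : Cfsg.PSU n F q)
  rw [hX, ← map_pow] at hc
  have hc1 : (l : K) ^ o = algebraMap F K c := by
    apply Algebra.leftMulMatrix_injective b
    show Φ _ = Φ _
    rw [hc, AlgHom.commutes, Algebra.algebraMap_eq_smul_one]
  have hc2 : (l : K) ^ (o * (q + 1)) = 1 := by
    have h1 : τ ((l : K) ^ o) * (l : K) ^ o = 1 := by rw [map_pow, ← mul_pow, hl1, one_pow]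
    rw [hc1, hτ, ← map_pow, ← map_mul] at h1
    obtain ⟨k, hk⟩ := hodd
    have h2 : c ^ q ^ n = c ^ q := by
      rw [hk, pow_succ, pow_mul, pow_mul, ← hF, FiniteField.pow_card_pow]
    rw [h2, ← pow_succ, map_pow, ← hc1, ← pow_mul] at h1
    exact h1
  have h3 : L ∣ o * (q + 1) := by
    rw [← hl]
    exact orderOf_dvd_of_pow_eq_one (Units.ext (by rw [Units.val_pow_eq_pow_val, hc2, Units.val_one]))
  have hg0 : 0 < g := hg ▸ Nat.gcd_pos_of_pos_right _ (by omega)
  have hcop : Nat.Coprime (L / g) ((q + 1) / g) := hg ▸ Nat.coprime_div_gcd_div_gcd (hg ▸ hg0)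
  refine hcop.dvd_of_dvd_mul_right ?_
  rw [← Nat.mul_div_assoc _ (hg ▸ Nat.gcd_dvd_right _ _)]
  exact Nat.div_dvd_div (hg ▸ Nat.gcd_dvd_left _ _) h3

end Torus

/-- The dichotomy. -/
theorem dichotomy (hF : Fintype.card F = q ^ 2) (p : ℕ) [Fact p.Prime] [CharP F p] (hn : 3 ≤ n) {r : ℕ} (hr : r.Prime)
    (hrq : r ∣ q + 1) (hrn : ¬ r ∣ n) :
    ∃ s : Cfsg.PSU n F q, ∀ x : Cfsg.PSU n F q, (∃ y : Cfsg.PSU n F q, orderOf x ∣ orderOf y ∧ r ∣ orderOf y) ∨
      orderOf x ∣ Nat.lcm (orderOf s) (p ^ Nat.clog p n) := by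
  classical
  have hp := (Fact.out : p.Prime)
  have hq2 := UnitarySingerOrder.q_two_le hF
  obtain ⟨w, hw⟩ : ((q : ℤ) + 1) ∣ (q : ℤ) ^ n - (-1) ^ n := by
    have := sub_dvd_pow_sub_pow (q : ℤ) (-1) n
    rwa [sub_neg_eq_add] at this
  have hw0 : 0 ≤ w := by
    have h1 : (1 : ℤ) ≤ (q : ℤ) ^ n := one_le_pow₀ (by omega)
    rcases neg_one_pow_eq_or ℤ n with h | h <;> rw [h] at hw <;> nlinarith
  obtain ⟨L, rfl⟩ := Int.eq_ofNat_of_zero_le hw0
  have hL : (L : ℤ) * (q + 1) = (q : ℤ) ^ n - (-1) ^ n := by rw [hw, mul_comm]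
  obtain ⟨s, hs⟩ := exists_torus hF p (show 2 ≤ n by omega) hL rfl
  refine ⟨s, fun x => ?_⟩
  obtain ⟨X, rfl⟩ := QuotientGroup.mk_surjective x
  by_cases hsplit : ∃ e : Matrix (Fin n) (Fin n) F, cst (Classical.powConj hF) e = e ∧ e * e = e ∧
      Commute e ((X : SpecialLinearGroup (Fin n) F) : Matrix (Fin n) (Fin n) F) ∧ e ≠ 0 ∧ e ≠ 1
  · obtain ⟨e, h1, h2, h3, h4, h5⟩ := hsplit
    exact Or.inl (enlarge hF (by omega) hr hrq hrn X e h1 h2 h3 h4 h5)
  right
  obtain ⟨c, hc⟩ := order_shape hF p (show 1 ≤ n by omega) _ ((mem_SU hF _).1 X.2) (X : SpecialLinearGroup (Fin n) F).2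
    (fun e h1 h2 h3 => by
      by_contra h
      simp only [not_or] at h
      exact hsplit ⟨e, h1, h2, h3, h.1, h.2⟩) hL (Nat.gcd_dvd_left L (q + 1)) (Nat.gcd_dvd_right L (q + 1))
  refine (orderOf_dvd_of_pow_eq_one ((mk_pow_eq_one_iff hF (by omega) X _).2 ⟨c, hc⟩)).trans ?_
  have hpL : ¬ p ∣ L := by
    intro h
    obtain ⟨a, ha0, ha⟩ := UnitaryCommUnipotent.exists_q_eq_pow (p := p) hF
    have hpq : (p : ℤ) ∣ (q : ℤ) ^ n := by
      rw [ha, Nat.cast_pow, ← pow_mul]
      exact dvd_pow_self _ (by positivity)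
    have h1 : (p : ℤ) ∣ (q : ℤ) ^ n - (-1) ^ n := hL ▸ dvd_mul_of_dvd_left (Int.natCast_dvd_natCast.2 h) _
    have h2 : (p : ℤ) ∣ (-1) ^ n := (dvd_sub_right hpq).1 h1
    rcases neg_one_pow_eq_or ℤ n with e | e <;> rw [e] at h2
    · exact hp.not_dvd_one (by exact_mod_cast h2)
    · exact hp.not_dvd_one (by exact_mod_cast (dvd_neg.1 h2))
  have hpw : ¬ p ∣ L / Nat.gcd L (q + 1) := fun h => hpL (h.trans (Nat.div_dvd_of_dvd (Nat.gcd_dvd_left _ _)))
  exact ((hp.coprime_iff_not_dvd.2 hpw).symm.pow_right _).mul_dvd_of_dvd_of_dvd (hs.trans (Nat.dvd_lcm_left _ _))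
    (Nat.dvd_lcm_right _ _)

end Cfsg.Lib.UnitOrders
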