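import Cfsg.Agent.Known.UnitOrders.Poly
import Cfsg.Agent.Known.SympOrders.Analysis
import Cfsg.Agent.Known.UnitaryGU
import Mathlib

/-!
Elements of `SU (n, q)` commuting with no nontrivial Hermitian idempotent: a suitable power is scalar.
-/

set_option autoImplicit false
set_option linter.style.haveILetI false

open Polynomial Matrix Cfsg.Lib.UnitaryConj

namespace Cfsg.Lib.UnitOrders

theorem exists_algebraMap_of_pow {F K : Type*} [Field F] [Fintype F] [Field K] [Algebra F K] {x : K}
    (h : x ^ (Fintype.card F - 1) = 1) : ∃ c : F, algebraMap F K c = x := by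
  classical
  by_contra hne
  simp only [not_exists] at hne
  set Q := Fintype.card F with hQ
  have hQ1 : 1 < Q := Fintype.one_lt_card
  let P : K[X] := X ^ Q - X
  have hP : P ≠ 0 := FiniteField.X_pow_card_sub_X_ne_zero K hQ1
  have hdeg : P.natDegree = Q := FiniteField.X_pow_card_sub_X_natDegree_eq K hQ1
  let S : Finset K := insert x (Finset.univ.image (algebraMap F K))
  have hS : S.val ≤ P.roots := (Multiset.le_iff_subset S.nodup).2 fun y hy => by
    rw [mem_roots hP, IsRoot, eval_sub, eval_pow, eval_X, sub_eq_zero]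
    rcases Finset.mem_insert.1 hy with rfl | hy'
    · rw [← Nat.sub_add_cancel hQ1.le, pow_succ, h, one_mul]
    · obtain ⟨c, -, rfl⟩ := Finset.mem_image.1 hy'
      rw [← map_pow, FiniteField.pow_card]
  have := (Multiset.card_le_card hS).trans P.card_roots'
  rw [hdeg, Finset.card_val, Finset.card_insert_of_notMem (fun hm => by
    obtain ⟨c, -, hc⟩ := Finset.mem_image.1 hm
    exact hne c hc), Finset.card_image_of_injective _ (algebraMap F K).injective, Finset.card_univ] at this
  omega

theorem commute_aeval {R A : Type*} [CommSemiring R] [Semiring A] [Algebra R A] {x B : A} (h : Commute x B)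
    (g : R[X]) : Commute x (aeval B g) := by
  induction g using Polynomial.induction_on' with
  | add s t hs ht => rw [map_add]; exact hs.add_right ht
  | monomial k c => rw [aeval_monomial]; exact (Algebra.commute_algebraMap_right c x).mul_right (h.pow_right k)

variable {F : Type*} [Field F] {n : ℕ}

/-- An irreducible factor of the characteristic polynomial divides the minimal polynomial. -/
theorem dvd_minpoly_of_dvd_charpoly (A : Matrix (Fin n) (Fin n) F) {g : F[X]} (hg : Irreducible g)
    (h : g ∣ A.charpoly) : g ∣ minpoly F A := by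
  haveI := Fact.mk hg
  let ι := AdjoinRoot.of g
  set r := AdjoinRoot.root g with hr
  have hroot : (A.map ι).charpoly.eval r = 0 := by
    rw [Matrix.charpoly_map, eval_map]
    obtain ⟨c, hc⟩ := h
    rw [hc, eval₂_mul, AdjoinRoot.eval₂_root, zero_mul]
  rw [Matrix.eval_charpoly] at hroot
  obtain ⟨v, hv, hmul⟩ := Matrix.exists_mulVec_eq_zero_iff.2 hroot
  have heig : A.map ι *ᵥ v = r • v := by
    rw [Matrix.sub_mulVec, sub_eq_zero, Matrix.scalar_apply, ← Matrix.smul_one_eq_diagonal, Matrix.smul_mulVec,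
      Matrix.one_mulVec] at hmul
    exact hmul.symm
  have hev : ∀ P : F[X], (aeval A P).map ι *ᵥ v = (P.eval₂ ι r) • v := by
    intro P
    induction P using Polynomial.induction_on with
    | C c =>
      rw [aeval_C, eval₂_C, Matrix.algebraMap_eq_diagonal, Matrix.diagonal_map (map_zero ι)]
      funext i
      simp [Matrix.mulVec_diagonal]
    | add s t hs ht => rw [map_add, Matrix.map_add ι (map_add ι), Matrix.add_mulVec, hs, ht, eval₂_add, add_smul]
    | monomial k c ih =>
      rw [pow_succ, ← mul_assoc, map_mul, aeval_X, Matrix.map_mul, ← mulVec_mulVec, heig, mulVec_smul, ih, smul_smul,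
        eval₂_mul (p := C c * X ^ k), eval₂_X, mul_comm r]
  have h2 := hev (minpoly F A)
  rw [minpoly.aeval, Matrix.map_zero _ (map_zero ι), Matrix.zero_mulVec] at h2
  have h3 : (minpoly F A).eval₂ ι r = 0 := (smul_eq_zero.1 h2.symm).resolve_right hv
  rwa [← AdjoinRoot.mk_eq_zero, ← AdjoinRoot.aeval_eq, aeval_def]

theorem dvd_pow_of_factors {S : F[X]} (hS : S ≠ 0) :
    ∀ (d : ℕ) (χ : F[X]), χ ≠ 0 → χ.natDegree ≤ d → (∀ g, Irreducible g → g ∣ χ → g ∣ S) → χ ∣ S ^ d := by
  intro d
  induction d with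
  | zero =>
    intro χ h0 hd _
    rw [pow_zero]
    exact (isUnit_iff_degree_eq_zero.2 (by rw [degree_eq_natDegree h0]; exact_mod_cast Nat.le_zero.1 hd)).dvd
  | succ d ih =>
    intro χ h0 hd hfac
    by_cases hu : IsUnit χ
    · exact hu.dvd
    obtain ⟨g, hg, hgd⟩ := WfDvdMonoid.exists_irreducible_factor hu h0
    obtain ⟨c, rfl⟩ := hgd
    have hc0 : c ≠ 0 := right_ne_zero_of_mul h0
    rw [natDegree_mul hg.ne_zero hc0] at hd
    have := hg.natDegree_pos
    rw [pow_succ']
    exact mul_dvd_mul (hfac g hg (dvd_mul_right _ _)) (ih c hc0 (by omega) fun g' h1 h2 => hfac g' h1 (h2.mul_left g))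

variable [Fintype F] {q : ℕ}

/-- A suitable power is scalar. -/
theorem order_shape (hF : Fintype.card F = q ^ 2) (p : ℕ) [Fact p.Prime] [CharP F p] (hn : 1 ≤ n)
    (M : Matrix (Fin n) (Fin n) F) (hM : cst (Classical.powConj hF) M * M = 1) (hdet : M.det = 1)
    (hno : ∀ e : Matrix (Fin n) (Fin n) F, cst (Classical.powConj hF) e = e → e * e = e → Commute e M → e = 0 ∨ e = 1)
    {L g : ℕ} (hL : (L : ℤ) * (q + 1) = (q : ℤ) ^ n - (-1) ^ n) (hgL : g ∣ L) (hgq : g ∣ q + 1) :
    ∃ c : F, M ^ (L / g * p ^ Nat.clog p n) = c • 1 := by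
  classical
  haveI : Nonempty (Fin n) := ⟨⟨0, hn⟩⟩
  have hσq := Classical.powConj_apply hF
  have hσ := invol hF
  have hq2 : 2 ≤ q := by
    have h := Fintype.one_lt_card (α := F)
    rw [hF] at h
    by_contra hc
    interval_cases q <;> simp at h
  set σ := Classical.powConj hF with hσdef
  set B := cst σ M with hB
  have hMB : M * B = 1 := mul_eq_one_comm.1 hM
  have hcBM : Commute B M := hM.trans hMB.symm
  have hμm : (minpoly F M).Monic := minpoly.monic (Matrix.isIntegral M)
  obtain ⟨f, hf, hfi, hfμ⟩ := exists_monic_irreducible_factor (minpoly F M) (minpoly.not_isUnit F M)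
  have hfχ : f ∣ M.charpoly := hfμ.trans (Matrix.minpoly_dvd_charpoly M)
  have hχdet := Matrix.det_eq_sign_charpoly_coeff M
  rw [hdet, Fintype.card_fin] at hχdet
  have h0 : f.coeff 0 ≠ 0 := by
    intro h
    obtain ⟨c, hc⟩ := hfχ
    rw [hc, mul_coeff_zero, h, zero_mul, mul_zero] at hχdet
    exact one_ne_zero hχdet
  set y := aeval M f * cst σ (aeval M f) with hy
  have hBf : cst σ (aeval M f) = aeval B (f.map σ) := ClassNumberSU.cst_aeval M f
  have hcy : Commute y M := by
    rw [hy, hBf]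
    exact ((commute_aeval (Commute.refl M) f).symm).mul_left (commute_aeval hcBM.symm _).symm
  have hsy : cst σ y = y := by rw [hy, cst_mul, cst_cst σ hσ]
  obtain ⟨k, hk, hidem⟩ := SympOrders.exists_idempotent_pow y
  have hyk : y ^ k = 0 := by
    rcases hno (y ^ k) (by rw [← ClassNumberSU.cst_pow, hsy]) hidem (hcy.pow_left k) with h | h
    · exact h
    · exfalso
      rw [← Nat.sub_add_cancel hk, pow_succ', hy, mul_assoc] at h
      have hu : IsUnit (aeval M f) := IsUnit.of_mul_eq_one _ h
      obtain ⟨c, hc⟩ := hfμ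
      have hc0 : aeval M c = 0 := by
        have := minpoly.aeval F M
        rw [hc, map_mul] at this
        exact hu.mul_right_eq_zero.1 this
      have hcne : c ≠ 0 := fun h => hμm.ne_zero (by rw [hc, h, mul_zero])
      have hdeg := natDegree_le_natDegree (minpoly.degree_le_of_ne_zero F M hcne hc0)
      rw [hc, natDegree_mul hfi.ne_zero hcne] at hdeg
      have := hfi.natDegree_pos
      omega
  have hrev : ∀ u : F[X], aeval B u * M ^ u.natDegree = aeval M u.reverse :=
    fun u => ClassNumberSU.aeval_reverse (K := F) M B hM hcBM.symm u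
  have hN : minpoly F M ∣ (f * DualPoly.dual σ f) ^ k := by
    refine minpoly.dvd F M ?_
    rw [DualPoly.dual, map_pow, map_mul, map_mul, ← hrev, aeval_C, ← mul_assoc, ← Algebra.commutes, mul_assoc,
      ← mul_assoc (aeval M f), ← hBf, ← hy, (Algebra.commute_algebraMap_left _ _).mul_pow, (hcy.pow_right _).mul_pow,
      hyk, zero_mul, mul_zero]
  have hsdμ : minpoly F M ∣ DualPoly.dual σ (minpoly F M) := by
    refine minpoly.dvd F M ?_
    rw [DualPoly.dual, map_mul, ← hrev, ← ClassNumberSU.cst_aeval, minpoly.aeval]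
    have hz : cst σ (0 : Matrix (Fin n) (Fin n) F) = 0 := by ext; simp [cst]
    rw [hz, zero_mul, mul_zero]
  obtain ⟨j, hj, hcase⟩ := shape hσ hμm hf hfi h0 hfμ hN hsdμ
  -- the characteristic polynomial has the same shape
  have hS0 : f * DualPoly.dual σ f ≠ 0 := mul_ne_zero hfi.ne_zero (DualPoly.dual_monic h0).ne_zero
  have hχN : M.charpoly ∣ (f * DualPoly.dual σ f) ^ n := by
    refine dvd_pow_of_factors hS0 n _ (Matrix.charpoly_monic M).ne_zero ?_ fun g' hg' hgd => ?_
    · rw [Matrix.charpoly_natDegree_eq_dim, Fintype.card_fin]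
    · exact hg'.prime.dvd_of_dvd_pow ((dvd_minpoly_of_dvd_charpoly M hg' hgd).trans hN)
  have hsdχ : M.charpoly ∣ DualPoly.dual σ M.charpoly := by
    have hBinv : B⁻¹ = M := Matrix.inv_eq_left_inv hMB
    have hBu : IsUnit B := IsUnit.of_mul_eq_one _ hM
    have hBc : B.charpoly = M.charpoly.map σ := by
      rw [hB, cst, Matrix.charpoly_transpose, Matrix.charpoly_map]
    have h := Matrix.charpoly_inv B hBu
    rw [hBinv, ← Matrix.reverse_charpoly, hBc] at h
    rw [DualPoly.dual]
    nth_rw 1 [h]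
    refine mul_dvd_mul_right ?_ _
    refine (IsUnit.mul ((isUnit_one.neg).pow _) (isUnit_C.2 ?_)).dvd
    rw [Ring.inverse_eq_inv']
    exact isUnit_iff_ne_zero.2 (inv_ne_zero (((Matrix.isUnit_iff_isUnit_det B).1 hBu).ne_zero))
  obtain ⟨i, hi, hcaseχ⟩ := shape hσ (Matrix.charpoly_monic M) hf hfi h0 hfχ hχN hsdχ
  have hdegχ : M.charpoly.natDegree = n := by rw [Matrix.charpoly_natDegree_eq_dim, Fintype.card_fin]
  have hjn : j ≤ n := by
    have h1 : j ≤ (minpoly F M).natDegree := by
      have hp1 := hfi.natDegree_pos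
      rcases hcase with ⟨-, h⟩ | ⟨-, h⟩
      · rw [h, natDegree_pow]; exact Nat.le_mul_of_pos_right _ hp1
      · rw [h, natDegree_pow]
        refine Nat.le_mul_of_pos_right _ ?_
        rw [natDegree_mul hfi.ne_zero (DualPoly.dual_monic h0).ne_zero]
        omega
    refine h1.trans (le_of_le_of_eq ?_ hdegχ)
    exact natDegree_le_of_dvd (Matrix.minpoly_dvd_charpoly M) (Matrix.charpoly_monic M).ne_zero
  obtain ⟨K, _, _, r, S, hS, hmin, hmin', hr0, hrord, hnorm, hself⟩ := root_facts hF hσq hσ hf hfi h0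
  -- the root is killed by `L`
  have hrL : r ^ L = 1 := by
    apply orderOf_dvd_iff_pow_eq_one.1
    rcases hcaseχ with ⟨hd, hχ⟩ | ⟨hd, hχ⟩
    · obtain ⟨hodd, hroot⟩ := hself hd
      have hdi : f.natDegree * i = n := by rw [← hdegχ, hχ, natDegree_pow, mul_comm]
      refine arith_self (S := S) (k := i) hodd hS hq2 hroot (orderOf_dvd_of_pow_eq_one ?_) (by rw [hdi]; exact hL)
      rw [pow_mul, ← hnorm, ← map_pow]
      rw [hχ, coeff_zero_eq_eval_zero, eval_pow, ← coeff_zero_eq_eval_zero, ← hdi, pow_mul, ← mul_pow] at hχdet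
      rw [← hχdet, map_one]
    · have hdi : 2 * f.natDegree * i = n := by
        rw [← hdegχ, hχ, natDegree_pow, natDegree_mul hfi.ne_zero (DualPoly.dual_monic h0).ne_zero,
          DualPoly.dual_natDegree h0]
        ring
      refine arith_pair (S := S) (k := i) hS hq2 hrord (orderOf_dvd_of_pow_eq_one ?_) (by rw [hdi]; exact hL)
      rw [hχ, coeff_zero_eq_eval_zero, eval_pow, eval_mul, ← coeff_zero_eq_eval_zero, ← coeff_zero_eq_eval_zero,
        DualPoly.dual_coeff_zero hf, ← hdi, mul_assoc 2, pow_mul, ((even_two).neg_one_pow : (-1 : F) ^ 2 = 1), one_pow,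
        one_mul, mul_pow, inv_pow, eq_comm, mul_inv_eq_one₀ (pow_ne_zero _ (by simpa using h0))] at hχdet
      have hN : (((-1 : F) ^ f.natDegree * f.coeff 0) ^ i) ^ q = ((-1 : F) ^ f.natDegree * f.coeff 0) ^ i := by
        rw [← hσq, mul_pow, map_mul, map_pow, map_pow, map_pow, map_neg, map_one, ← hχdet]
      have h1 := congrArg (algebraMap F K) hN
      simp only [map_pow, hnorm, ← pow_mul, ← mul_assoc] at h1
      have h2 : r ^ (S * i * q) = r ^ (S * (q - 1) * i) * r ^ (S * i) := by
        rw [← pow_add]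
        congr 1
        obtain ⟨q', rfl⟩ : ∃ q', q = q' + 1 := ⟨q - 1, by omega⟩
        rw [Nat.add_sub_cancel]
        ring
      rw [h2] at h1
      exact (mul_eq_right₀ (pow_ne_zero _ hr0)).1 h1
  -- a scalar
  set w := L / g with hw
  have hwL : w * g = L := Nat.div_mul_cancel hgL
  obtain ⟨u, hu⟩ := hgq
  have hrw : r ^ (w * (q + 1)) = 1 := by
    rw [hu, ← mul_assoc, hwL, pow_mul, hrL, one_pow]
  obtain ⟨c, hc⟩ := exists_algebraMap_of_pow (F := F) (x := r ^ w) (by
    rw [hF, ← pow_mul, show q ^ 2 - 1 = (q + 1) * (q - 1) by rw [← Nat.sq_sub_sq, one_pow], ← mul_assoc, pow_mul, hrw,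
      one_pow])
  have hcq : c ^ q * c = 1 := by
    apply (algebraMap F K).injective
    rw [map_mul, map_pow, hc, map_one, ← pow_mul, ← pow_add, ← hrw, mul_add, mul_one]
  have hf1 : f ∣ X ^ w - C c := hmin _ (by simp [hc])
  have hf2 : DualPoly.dual σ f ∣ X ^ w - C c := hmin' _ (by
    have hc2 : algebraMap F K c = ((r ^ q)⁻¹) ^ w := by
      rw [inv_pow, ← pow_mul, mul_comm q, pow_mul, ← hc, ← map_pow, ← map_inv₀]
      congr 1
      exact (eq_inv_of_mul_eq_one_left (by rw [mul_comm]; exact hcq))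
    simp [hc2])
  have hμd : minpoly F M ∣ (X ^ w - C c) ^ j := by
    rcases hcase with ⟨-, h⟩ | ⟨hd, h⟩
    · rw [h]; exact pow_dvd_pow_of_dvd hf1 j
    · rw [h]
      have hdi : Irreducible (DualPoly.dual σ f) := DualPoly.dual_irreducible hσ hf hfi h0
      have hcop : IsCoprime f (DualPoly.dual σ f) := (hfi.coprime_iff_not_dvd).2 fun h => hd
        (eq_of_monic_of_associated (DualPoly.dual_monic h0) hf (hfi.associated_of_dvd hdi h).symm)
      exact pow_dvd_pow_of_dvd (hcop.mul_dvd hf1 hf2) j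
  refine ⟨c ^ p ^ Nat.clog p n, ?_⟩
  have h1 : aeval M ((X ^ w - C c) ^ p ^ Nat.clog p n) = 0 := by
    have hdd := hμd.trans (pow_dvd_pow _ (hjn.trans (Nat.le_pow_clog (Fact.out : p.Prime).one_lt n)))
    exact Polynomial.aeval_eq_zero_of_dvd_aeval_eq_zero hdd (minpoly.aeval F M)
  rw [sub_pow_char_pow, map_sub, ← pow_mul, map_pow, aeval_X, ← map_pow C, aeval_C, sub_eq_zero,
    Algebra.algebraMap_eq_smul_one] at h1
  exact h1

end Cfsg.Lib.UnitOrders
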