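import Cfsg.Agent.Known.DualPoly
import Cfsg.Agent.Known.ClassNumberSU.Duality
import Mathlib

/-!
Polynomials self-dual under a conjugation: roots, constant terms, and the arithmetic of unitary tori.
-/

set_option autoImplicit false
set_option linter.style.haveILetI false

open Polynomial

namespace Cfsg.Lib.UnitOrders

theorem monic_eq_pow {F : Type*} [Field F] {a f : F[X]} (ha : a.Monic) (hf : f.Monic) (hfi : Irreducible f) {N : ℕ}
    (h : a ∣ f ^ N) : ∃ i, a = f ^ i := by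
  obtain ⟨i, -, hi⟩ := (dvd_prime_pow hfi.prime N).1 h
  exact ⟨i, eq_of_monic_of_associated ha (hf.pow i) hi⟩

section Shape

variable {F : Type*} [Field F] {σ : F →+* F}

theorem dual_pow' (f : F[X]) (k : ℕ) : DualPoly.dual σ (f ^ k) = DualPoly.dual σ f ^ k := by
  induction k with
  | zero => rw [pow_zero, pow_zero, DualPoly.dual_C_one]
  | succ k ih => rw [pow_succ, pow_succ, DualPoly.dual_mul, ih]

/-- The shape of a self-dual polynomial dividing a power of `f * dual f`. -/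
theorem shape (hσ : ∀ a, σ (σ a) = a) {μ f : F[X]} (hμ : μ.Monic) (hf : f.Monic) (hfi : Irreducible f)
    (h0 : f.coeff 0 ≠ 0) (hfμ : f ∣ μ) {N : ℕ} (hN : μ ∣ (f * DualPoly.dual σ f) ^ N)
    (hsd : μ ∣ DualPoly.dual σ μ) :
    ∃ j, 1 ≤ j ∧ ((DualPoly.dual σ f = f ∧ μ = f ^ j) ∨
      (DualPoly.dual σ f ≠ f ∧ μ = (f * DualPoly.dual σ f) ^ j)) := by
  have h1 : ∀ i, μ = f ^ i → 1 ≤ i := by
    intro i hi
    by_contra h
    rw [show i = 0 by omega, pow_zero] at hi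
    rw [hi] at hfμ
    exact hfi.not_isUnit (isUnit_of_dvd_one hfμ)
  by_cases hd : DualPoly.dual σ f = f
  · rw [hd, ← pow_two, ← pow_mul] at hN
    obtain ⟨i, hi⟩ := monic_eq_pow hμ hf hfi hN
    exact ⟨i, h1 i hi, Or.inl ⟨hd, hi⟩⟩
  have hdi : Irreducible (DualPoly.dual σ f) := DualPoly.dual_irreducible hσ hf hfi h0
  have hdm : (DualPoly.dual σ f).Monic := DualPoly.dual_monic h0
  have hcop : IsCoprime f (DualPoly.dual σ f) := (hfi.coprime_iff_not_dvd).2 fun h => hd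
    (eq_of_monic_of_associated hdm hf (hfi.associated_of_dvd hdi h).symm)
  rw [mul_pow] at hN
  obtain ⟨a, b, ha, hb, hab⟩ := exists_dvd_and_dvd_of_dvd_mul hN
  obtain ⟨i, -, hi⟩ := (dvd_prime_pow hfi.prime N).1 ha
  obtain ⟨i', -, hi'⟩ := (dvd_prime_pow hdi.prime N).1 hb
  have hμe : μ = f ^ i * DualPoly.dual σ f ^ i' := eq_of_monic_of_associated hμ ((hf.pow i).mul (hdm.pow i'))
    (hab ▸ hi.mul_mul hi')
  rw [hμe, DualPoly.dual_mul, dual_pow', dual_pow', DualPoly.dual_dual hσ hf h0] at hsd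
  have e1 : i ≤ i' := by
    have h : f ^ i ∣ f ^ i' := (hcop.pow (m := i) (n := i)).dvd_of_dvd_mul_left ((dvd_mul_right _ _).trans hsd)
    exact (pow_dvd_pow_iff hfi.ne_zero hfi.not_isUnit).1 h
  have e2 : i' ≤ i := by
    have h : DualPoly.dual σ f ^ i' ∣ DualPoly.dual σ f ^ i :=
      (hcop.symm.pow (m := i') (n := i')).dvd_of_dvd_mul_right ((dvd_mul_left _ _).trans hsd)
    exact (pow_dvd_pow_iff hdi.ne_zero hdi.not_isUnit).1 h
  have hii : i = i' := le_antisymm e1 e2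
  subst hii
  refine ⟨i, ?_, Or.inr ⟨hd, by rw [hμe, mul_pow]⟩⟩
  by_contra h
  rw [show i = 0 by omega, pow_zero, pow_zero, one_mul] at hμe
  rw [hμe] at hfμ
  exact hfi.not_isUnit (isUnit_of_dvd_one hfμ)

end Shape

section Arith

/-- Field case: an element order dividing `q ^ d + 1` and the norm exponent divides the torus order. -/
theorem arith_self {q d k e S L : ℕ} (hd : Odd d) (hS : S * (q ^ 2 - 1) = q ^ (2 * d) - 1) (hq : 2 ≤ q)
    (he : e ∣ q ^ d + 1) (hek : e ∣ S * k) (hL : (L : ℤ) * (q + 1) = (q : ℤ) ^ (d * k) - (-1) ^ (d * k)) :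
    e ∣ L := by
  obtain ⟨G, hG⟩ : ∃ G : ℤ, G * ((q : ℤ) - 1) = (q : ℤ) ^ d - 1 := ⟨_, geom_sum_mul _ d⟩
  obtain ⟨H, hH⟩ : ∃ H : ℤ, H * ((q : ℤ) + 1) = (q : ℤ) ^ d + 1 := by
    refine ⟨∑ i ∈ Finset.range d, (q : ℤ) ^ i * (-1) ^ (d - 1 - i), ?_⟩
    have h := geom_sum₂_mul (q : ℤ) (-1) d
    rw [hd.neg_one_pow, sub_neg_eq_add, sub_neg_eq_add] at h
    exact h
  have hG1 : ((q : ℤ) + 1) ∣ G - 1 := by
    have hGe : G = ∑ i ∈ Finset.range d, (q : ℤ) ^ i := by
      refine mul_right_cancel₀ (b := (q : ℤ) - 1) ?_ (hG.trans (geom_sum_mul _ d).symm)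
      omega
    have : ((q : ℤ) + 1) ∣ G - ∑ i ∈ Finset.range d, (-1 : ℤ) ^ i := by
      rw [hGe, ← Finset.sum_sub_distrib]
      refine Finset.dvd_sum fun i _ => ?_
      have h := sub_dvd_pow_sub_pow (q : ℤ) (-1) i
      rwa [sub_neg_eq_add] at h
    rwa [neg_one_geom_sum, if_neg (Nat.not_even_iff_odd.2 hd)] at this
  have hSZ : (S : ℤ) * ((q : ℤ) ^ 2 - 1) = (q : ℤ) ^ (2 * d) - 1 := by
    have h := congrArg (fun x : ℕ => (x : ℤ)) hS
    simp only [Nat.cast_mul] at h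
    rwa [Nat.cast_sub (Nat.one_le_pow _ _ (by omega)), Nat.cast_sub (Nat.one_le_pow _ _ (by omega)), Nat.cast_pow,
      Nat.cast_pow, Nat.cast_one] at h
  have hSGH : (S : ℤ) = H * G := by
    refine mul_right_cancel₀ (b := (q : ℤ) ^ 2 - 1) ?_ ?_
    · have : (4 : ℤ) ≤ (q : ℤ) ^ 2 := by exact_mod_cast Nat.pow_le_pow_left hq 2
      omega
    · rw [hSZ]
      calc (q : ℤ) ^ (2 * d) - 1 = ((q : ℤ) ^ d + 1) * ((q : ℤ) ^ d - 1) := by ring
        _ = H * ((q : ℤ) + 1) * (G * ((q : ℤ) - 1)) := by rw [hH, hG]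
        _ = H * G * ((q : ℤ) ^ 2 - 1) := by ring
  have heZ : (e : ℤ) ∣ H * ((q : ℤ) + 1) := by rw [hH]; exact_mod_cast he
  have hekZ : (e : ℤ) ∣ H * G * k := by rw [← hSGH]; exact_mod_cast hek
  obtain ⟨c, hc⟩ := hG1
  have hkH : (e : ℤ) ∣ H * k := by
    have : H * (k : ℤ) = H * G * k - H * ((q : ℤ) + 1) * (c * k) := by linear_combination (-(H * k)) * hc
    rw [this]
    exact dvd_sub hekZ (dvd_mul_of_dvd_left heZ _)
  obtain ⟨R, hR, hRk⟩ : ∃ R : ℤ, R * ((q : ℤ) ^ d + 1) = ((q : ℤ) ^ d) ^ k - (-1) ^ k ∧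
      ((q : ℤ) ^ d + 1) ∣ R - (k : ℤ) * (-1) ^ (k - 1) := by
    refine ⟨∑ i ∈ Finset.range k, ((q : ℤ) ^ d) ^ i * (-1) ^ (k - 1 - i), ?_, ?_⟩
    · have h := geom_sum₂_mul ((q : ℤ) ^ d) (-1) k
      rwa [sub_neg_eq_add] at h
    · have hk : (k : ℤ) * (-1) ^ (k - 1) = ∑ i ∈ Finset.range k, (-1 : ℤ) ^ i * (-1) ^ (k - 1 - i) := by
        rw [Finset.sum_congr rfl (g := fun _ => (-1 : ℤ) ^ (k - 1)) fun i hi => by
          rw [← pow_add]; congr 1; rw [Finset.mem_range] at hi; omega]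
        simp
      rw [hk, ← Finset.sum_sub_distrib]
      refine Finset.dvd_sum fun i _ => ?_
      rw [← sub_mul]
      refine dvd_mul_of_dvd_left ?_ _
      have h := sub_dvd_pow_sub_pow ((q : ℤ) ^ d) (-1) i
      rwa [sub_neg_eq_add] at h
  have hLR : (L : ℤ) = H * R := by
    refine mul_right_cancel₀ (b := (q : ℤ) + 1) (by omega) ?_
    rw [hL, pow_mul, pow_mul, hd.neg_one_pow, ← hR]
    linear_combination (-R) * hH
  obtain ⟨w, hw⟩ := hRk
  have : (e : ℤ) ∣ (L : ℤ) := by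
    have e1 : (L : ℤ) = H * k * (-1) ^ (k - 1) + H * ((q : ℤ) + 1) * (H * w) := by
      rw [hLR]
      linear_combination H * hw - H * w * hH
    rw [e1]
    exact dvd_add (dvd_mul_of_dvd_left hkH _) (dvd_mul_of_dvd_left heZ _)
  exact_mod_cast this

/-- Pair case. -/
theorem arith_pair {q d k e S L : ℕ} (hS : S * (q ^ 2 - 1) = q ^ (2 * d) - 1) (hq : 2 ≤ q)
    (he : e ∣ q ^ (2 * d) - 1) (hek : e ∣ S * (q - 1) * k)
    (hL : (L : ℤ) * (q + 1) = (q : ℤ) ^ (2 * d * k) - (-1) ^ (2 * d * k)) : e ∣ L := by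
  have hSZ : (S : ℤ) * ((q : ℤ) ^ 2 - 1) = (q : ℤ) ^ (2 * d) - 1 := by
    have h := congrArg (fun x : ℕ => (x : ℤ)) hS
    simp only [Nat.cast_mul] at h
    rwa [Nat.cast_sub (Nat.one_le_pow _ _ (by omega)), Nat.cast_sub (Nat.one_le_pow _ _ (by omega)), Nat.cast_pow,
      Nat.cast_pow, Nat.cast_one] at h
  have heZ : (e : ℤ) ∣ (q : ℤ) ^ (2 * d) - 1 := by
    have h := Int.natCast_dvd_natCast.2 he
    rwa [Nat.cast_sub (Nat.one_le_pow _ _ (by omega)), Nat.cast_pow, Nat.cast_one] at h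
  have hekZ : (e : ℤ) ∣ (S : ℤ) * ((q : ℤ) - 1) * k := by
    have h := Int.natCast_dvd_natCast.2 hek
    simp only [Nat.cast_mul] at h
    rwa [Nat.cast_sub (by omega), Nat.cast_one] at h
  obtain ⟨R, hR, hRk⟩ : ∃ R : ℤ, R * ((q : ℤ) ^ (2 * d) - 1) = ((q : ℤ) ^ (2 * d)) ^ k - 1 ∧
      ((q : ℤ) ^ (2 * d) - 1) ∣ R - (k : ℤ) := by
    refine ⟨∑ i ∈ Finset.range k, ((q : ℤ) ^ (2 * d)) ^ i, geom_sum_mul _ k, ?_⟩
    rw [show (k : ℤ) = ∑ i ∈ Finset.range k, (1 : ℤ) by simp, ← Finset.sum_sub_distrib]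
    exact Finset.dvd_sum fun i _ => by simpa using sub_dvd_pow_sub_pow ((q : ℤ) ^ (2 * d)) 1 i
  have hLR : (L : ℤ) = S * ((q : ℤ) - 1) * R := by
    refine mul_right_cancel₀ (b := (q : ℤ) + 1) (by omega) ?_
    rw [hL, ((even_two_mul d).mul_right k).neg_one_pow, pow_mul, ← hR]
    linear_combination (-R) * hSZ
  obtain ⟨w, hw⟩ := hRk
  have : (e : ℤ) ∣ (L : ℤ) := by
    have e1 : (L : ℤ) = S * ((q : ℤ) - 1) * k + ((q : ℤ) ^ (2 * d) - 1) * (S * ((q : ℤ) - 1) * w) := by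
      rw [hLR]
      linear_combination (S * ((q : ℤ) - 1)) * hw
    rw [e1]
    exact dvd_add hekZ (dvd_mul_of_dvd_left heZ _)
  exact_mod_cast this

end Arith

section Roots

universe u

variable {F : Type u} [Field F] [Fintype F]

/-- What is needed about a root of `f` in its splitting field: it generates, its conjugate inverse is a root of
the dual, the norm, and the orders. -/
theorem root_facts {q : ℕ} (hF : Fintype.card F = q ^ 2) {σ : F →+* F} (hσq : ∀ a, σ a = a ^ q)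
    (hσ : ∀ a, σ (σ a) = a) {f : F[X]} (hf : f.Monic) (hfi : Irreducible f) (h0 : f.coeff 0 ≠ 0) :
    ∃ (K : Type u) (_ : Field K) (_ : Algebra F K) (r : K) (S : ℕ), S * (q ^ 2 - 1) = q ^ (2 * f.natDegree) - 1 ∧
      (∀ h : F[X], aeval r h = 0 → f ∣ h) ∧
      (∀ h : F[X], aeval (r ^ q)⁻¹ h = 0 → DualPoly.dual σ f ∣ h) ∧
      r ≠ 0 ∧ orderOf r ∣ q ^ (2 * f.natDegree) - 1 ∧
      algebraMap F K ((-1) ^ f.natDegree * f.coeff 0) = r ^ S ∧
      (DualPoly.dual σ f = f → Odd f.natDegree ∧ orderOf r ∣ q ^ f.natDegree + 1) := by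
  classical
  haveI := Fact.mk hfi
  obtain ⟨p, _⟩ := CharP.exists F
  haveI : Fact p.Prime := ⟨CharP.char_is_prime F p⟩
  haveI : Module.Finite F (AdjoinRoot f) := hf.finite_adjoinRoot
  haveI : Finite (AdjoinRoot f) := Module.finite_of_finite F
  haveI := Fintype.ofFinite (AdjoinRoot f)
  haveI : CharP (AdjoinRoot f) p := charP_of_injective_algebraMap (algebraMap F (AdjoinRoot f)).injective p
  have hfin : Module.finrank F (AdjoinRoot f) = f.natDegree := by
    rw [PowerBasis.finrank (AdjoinRoot.powerBasis hfi.ne_zero), AdjoinRoot.powerBasis_dim]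
  have hcard : Nat.card (AdjoinRoot f) = q ^ (2 * f.natDegree) := by
    rw [Module.natCard_eq_pow_finrank (K := F), hfin, Nat.card_eq_fintype_card, hF, ← pow_mul]
  obtain ⟨a, ha⟩ : ∃ a, q = p ^ a := by
    obtain ⟨k, hp, hk⟩ := FiniteField.card F p
    obtain ⟨a, -, ha⟩ := (Nat.dvd_prime_pow hp).1 (show q ∣ p ^ (k : ℕ) from hk ▸ hF ▸ dvd_pow_self q two_ne_zero)
    exact ⟨a, ha⟩
  have hq2 : 2 ≤ q := by
    have h := Fintype.one_lt_card (α := F)
    rw [hF] at h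
    by_contra hc
    interval_cases q <;> simp at h
  set r := AdjoinRoot.root f with hr
  have hmin : ∀ h : F[X], aeval r h = 0 → f ∣ h := fun h hh => by
    rwa [AdjoinRoot.aeval_eq, AdjoinRoot.mk_eq_zero] at hh
  have hr0 : aeval r f = 0 := by rw [AdjoinRoot.aeval_eq, AdjoinRoot.mk_self]
  have hrne : r ≠ 0 := fun h => by
    have : f ∣ X := hmin X (by rw [aeval_X, h])
    have he := eq_of_monic_of_associated hf monic_X (hfi.associated_of_dvd irreducible_X this)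
    rw [he] at h0
    simp at h0
  have hrord : orderOf r ∣ q ^ (2 * f.natDegree) - 1 := orderOf_dvd_of_pow_eq_one (by
    rw [← hcard, Nat.card_eq_fintype_card]
    exact FiniteField.pow_card_sub_one_eq_one r hrne)
  have hconj : aeval (r ^ q) (f.map σ) = 0 := by
    have h := congrArg (iterateFrobenius (AdjoinRoot f) p a) hr0
    rw [map_zero, aeval_def, hom_eval₂] at h
    rw [aeval_def, eval₂_map, ← h, iterateFrobenius_def, ← ha]
    congr 1
    ext c
    rw [RingHom.comp_apply, RingHom.comp_apply, hσq, iterateFrobenius_def, map_pow, ← ha]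
  have hrq : r ^ q ≠ 0 := pow_ne_zero _ hrne
  have hdual : aeval (r ^ q)⁻¹ (DualPoly.dual σ f) = 0 := by
    rw [DualPoly.dual, map_mul]
    have h := ClassNumberSU.aeval_reverse (K := F) (r ^ q)⁻¹ (r ^ q) (mul_inv_cancel₀ hrq) (Commute.all _ _) (f.map σ)
    rw [hconj, zero_mul] at h
    rw [← h, mul_zero]
  obtain ⟨S, hS⟩ : ∃ S, S = (q ^ (2 * f.natDegree) - 1) / (q ^ 2 - 1) := ⟨_, rfl⟩
  have hS' : S * (q ^ 2 - 1) = q ^ (2 * f.natDegree) - 1 := by
    rw [hS, Nat.div_mul_cancel]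
    rw [pow_mul]
    exact Nat.sub_one_dvd_pow_sub_one _ _
  refine ⟨AdjoinRoot f, inferInstance, inferInstance, r, S, hS', hmin, fun h hh => ?_, hrne, hrord, ?_, fun hd => ?_⟩
  · have he : minpoly F (r ^ q)⁻¹ = DualPoly.dual σ f :=
      (minpoly.eq_of_irreducible_of_monic (DualPoly.dual_irreducible hσ hf hfi h0) hdual (DualPoly.dual_monic h0)).symm
    rw [← he]
    exact minpoly.dvd F _ hh
  · have hN : Algebra.norm F r = (-1) ^ f.natDegree * f.coeff 0 := by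
      have h := Algebra.PowerBasis.norm_gen_eq_coeff_zero_minpoly (AdjoinRoot.powerBasis hfi.ne_zero)
      rw [AdjoinRoot.powerBasis_dim, AdjoinRoot.powerBasis_gen, AdjoinRoot.minpoly_root hfi.ne_zero,
        hf.leadingCoeff, inv_one, map_one, mul_one] at h
      exact h
    rw [← hN, FiniteField.algebraMap_norm_eq_pow, hcard, Nat.card_eq_fintype_card, hF, hS]
  · rw [hd] at hdual
    obtain ⟨i, hi, hroot⟩ : ∃ i, i < f.natDegree ∧ (r ^ q)⁻¹ = r ^ (q ^ (2 * i)) := by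
      let φ : AdjoinRoot f →ₐ[F] AdjoinRoot f := AdjoinRoot.liftAlgHom f (Algebra.ofId F _) (r ^ q)⁻¹ hdual
      have hφr : φ r = (r ^ q)⁻¹ := AdjoinRoot.liftAlgHom_root f (Algebra.ofId F _) _ hdual
      obtain ⟨k, hk⟩ := (FiniteField.bijective_frobeniusAlgEquivOfAlgebraic_pow F (AdjoinRoot f)).2
        (AlgEquiv.ofBijective φ φ.bijective)
      refine ⟨k, hfin ▸ k.2, ?_⟩
      have := congrArg (fun e : AdjoinRoot f ≃ₐ[F] AdjoinRoot f => e r) hk
      simp only [AlgEquiv.coe_pow, FiniteField.coe_frobeniusAlgEquivOfAlgebraic_iterate,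
        AlgEquiv.coe_ofBijective, hφr, hF, ← pow_mul] at this
      exact this.symm
    have htwice : r ^ q ^ (2 * (2 * i)) = r ^ q ^ 2 := by
      have e1 : q ^ (2 * (2 * i)) = q ^ (2 * i) * q ^ (2 * i) := by ring
      rw [e1, pow_mul, ← hroot, inv_pow, ← pow_mul, mul_comm q, pow_mul, ← hroot, inv_pow, inv_inv, ← pow_mul, pow_two]
    obtain ⟨T, hTc, hT⟩ : ∃ T : AdjoinRoot f ≃ₐ[F] AdjoinRoot f, orderOf T = f.natDegree ∧
        ∀ m : ℕ, (T ^ m) r = r ^ q ^ (2 * m) := by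
      refine ⟨FiniteField.frobeniusAlgEquivOfAlgebraic F (AdjoinRoot f),
        (FiniteField.orderOf_frobeniusAlgEquivOfAlgebraic F (AdjoinRoot f)).trans hfin, fun m => ?_⟩
      simp only [AlgEquiv.coe_pow, FiniteField.coe_frobeniusAlgEquivOfAlgebraic_iterate, hF, ← pow_mul]
    have hTT : T ^ (2 * i) = T ^ 1 := by
      refine AlgEquiv.coe_toAlgHom_injective (AdjoinRoot.algHom_ext ?_)
      change (T ^ (2 * i)) r = (T ^ 1) r
      rw [hT, hT, htwice, mul_one]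
    have hmod : (2 * i : ℤ) ≡ 1 [ZMOD (f.natDegree : ℤ)] := by
      have h := (pow_eq_pow_iff_modEq.1 hTT)
      rw [hTc] at h
      exact_mod_cast Int.natCast_modEq_iff.2 h
    rcases Nat.eq_zero_or_pos i with hi0 | hi0
    · subst hi0
      have hd1 : f.natDegree = 1 := by
        have h := hmod.dvd
        simp only [Nat.cast_zero, mul_zero, sub_zero] at h
        exact Nat.dvd_one.1 (by exact_mod_cast h)
      refine ⟨hd1 ▸ odd_one, orderOf_dvd_of_pow_eq_one ?_⟩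
      rw [hd1, pow_one, pow_succ]
      rw [mul_zero, pow_zero, pow_one] at hroot
      nth_rw 2 [← hroot]
      exact mul_inv_cancel₀ hrq
    · obtain ⟨w, hw⟩ := hmod.symm.dvd
      have hw1 : w = 1 := by
        have h1 : (0 : ℤ) < (f.natDegree : ℤ) * w := by rw [← hw]; omega
        have h2 : (f.natDegree : ℤ) * w < f.natDegree * 2 := by rw [← hw]; omega
        have := (pos_iff_pos_of_mul_pos h1).1 (by omega)
        have := lt_of_mul_lt_mul_left h2 (by omega)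
        omega
      rw [hw1, mul_one] at hw
      have hde : 2 * i = f.natDegree + 1 := by omega
      refine ⟨⟨i - 1, by omega⟩, orderOf_dvd_of_pow_eq_one ?_⟩
      have h1 : (r ^ (q ^ f.natDegree + 1)) ^ q = 1 := by
        rw [← pow_mul, add_mul, one_mul, pow_add, ← pow_succ, ← hde, ← hroot, inv_mul_cancel₀ hrq]
      apply (iterateFrobenius (AdjoinRoot f) p a).injective
      rw [map_one, iterateFrobenius_def, ← ha, h1]

end Roots

end Cfsg.Lib.UnitOrders
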