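import Cfsg.Agent.Known.UnitOrders.Spectrum
import Cfsg.Agent.Classical.Misc.UnitaryCommutingUnipotent
import Mathlib

/-!
The element orders of `PSU (3, q)`, `q` odd.
-/

set_option autoImplicit false
set_option linter.style.haveILetI false

open Matrix Polynomial Cfsg.Lib.UnitaryConj

namespace Cfsg.Lib.UnitOrders

universe u

variable {F : Type u} [Field F] [Fintype F] {q : ℕ}

local notation "Kc" => AlgebraicClosure F

/-- The roots of the characteristic polynomial of a unitary `3 × 3` matrix with determinant one. -/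
theorem roots_three (hF : Fintype.card F = q ^ 2) (M : Matrix (Fin 3) (Fin 3) F)
    (hM : cst (Classical.powConj hF) M * M = 1) (hd : M.det = 1) :
    ∃ a b c : Kc, (M.map (algebraMap F Kc)).charpoly = (X - C a) * ((X - C b) * (X - C c)) ∧ a * (b * c) = 1 ∧
      ∀ x ∈ ({a, b, c} : Set Kc), (x ^ q)⁻¹ ∈ ({a, b, c} : Set Kc) ∧ x ^ q ^ 2 ∈ ({a, b, c} : Set Kc) := by
  classical
  obtain ⟨p, _⟩ := CharP.exists F
  haveI : Fact p.Prime := ⟨CharP.char_is_prime F p⟩
  haveI : CharP Kc p := charP_of_injective_algebraMap (algebraMap F Kc).injective p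
  obtain ⟨j, -, hj⟩ := UnitaryCommUnipotent.exists_q_eq_pow (p := p) hF
  set ι := algebraMap F Kc with hι
  set A := M.map ι with hA
  set P := A.charpoly with hP
  have hsp : P.Splits := IsAlgClosed.splits P
  have hmon : P.Monic := Matrix.charpoly_monic A
  have hdeg : P.natDegree = 3 := by rw [hP, Matrix.charpoly_natDegree_eq_dim, Fintype.card_fin]
  obtain ⟨a, b, c, hR⟩ := Multiset.card_eq_three.1 ((splits_iff_card_roots.1 hsp).trans hdeg)
  have hfac : P = (X - C a) * ((X - C b) * (X - C c)) := by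
    conv_lhs => rw [hsp.eq_prod_roots_of_monic hmon, hR]
    simp
  have hdet : a * (b * c) = 1 := by
    have h := Matrix.det_eq_sign_charpoly_coeff A
    rw [← hP, hfac, Fintype.card_fin, hA, ← RingHom.mapMatrix_apply, ← RingHom.map_det, hd, map_one] at h
    rw [coeff_zero_eq_eval_zero] at h
    simp only [eval_mul, eval_sub, eval_X, eval_C, zero_sub] at h
    linear_combination -h
  refine ⟨a, b, c, hfac, hdet, fun x hx => ?_⟩
  have hmem : ∀ y : Kc, P.IsRoot y ↔ y ∈ ({a, b, c} : Set Kc) := fun y => by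
    rw [← mem_roots hmon.ne_zero, hR]
    simp
  have hxr := (hmem x).2 hx
  have hx0 : x ≠ 0 := by
    rintro rfl
    rcases hx with h | h | h <;> rw [← h] at hdet <;> simp at hdet
  let τ : Kc →+* Kc := iterateFrobenius Kc p j
  have hτ : ∀ y, τ y = y ^ q := fun y => by rw [hj]; exact iterateFrobenius_def p j y
  refine ⟨(hmem _).1 ?_, (hmem _).1 ?_⟩
  · rw [← hτ]
    refine UnitaryCommUnipotent.isRoot_conj_inv τ A ?_ x hx0 hxr
    have h := congrArg (fun B : Matrix (Fin 3) (Fin 3) F => B.map ι) hM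
    simp only [Matrix.map_mul, Matrix.map_one _ (map_zero ι) (map_one ι)] at h
    rw [← hA] at h
    rw [← h]
    congr 1
    ext i k
    simp only [cst, hA, Matrix.transpose_apply, Matrix.map_apply, hτ, Classical.powConj_apply hF, map_pow]
  · rw [hP, hA, Matrix.charpoly_map, IsRoot, eval_map] at hxr ⊢
    let τ2 : Kc →+* Kc := iterateFrobenius Kc p (j * 2)
    have hτ2 : ∀ y, τ2 y = y ^ q ^ 2 := fun y => by rw [hj, ← pow_mul]; exact iterateFrobenius_def p (j * 2) y
    have h := congrArg τ2 hxr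
    rw [map_zero, hom_eval₂, hτ2] at h
    have hc : τ2.comp ι = ι := RingHom.ext fun y => by rw [RingHom.comp_apply, hτ2, ← map_pow, ← hF, FiniteField.pow_card]
    rwa [hc] at h

/-- From a divisibility of the characteristic polynomial over the closure to a scalar power. -/
theorem scalar_of_dvd (M : Matrix (Fin 3) (Fin 3) F) {k : ℕ} (s : Kc)
    (h : (M.map (algebraMap F Kc)).charpoly ∣ X ^ k - C s) : ∃ z : F, M ^ k = z • 1 := by
  have h1 := Polynomial.aeval_eq_zero_of_dvd_aeval_eq_zero h (Matrix.aeval_self_charpoly _)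
  rw [map_sub, map_pow, aeval_X, aeval_C, sub_eq_zero, Algebra.algebraMap_eq_smul_one, ← RingHom.mapMatrix_apply,
    ← map_pow, RingHom.mapMatrix_apply] at h1
  have hs : s = algebraMap F Kc ((M ^ k) 0 0) := by
    have := congrFun (congrFun h1 0) 0
    simp at this
    exact this.symm
  refine ⟨(M ^ k) 0 0, ?_⟩
  apply Matrix.map_injective (algebraMap F Kc).injective
  dsimp only
  rw [h1, hs]
  ext i j
  rcases eq_or_ne i j with rfl | hij
  · simp
  · simp [hij]

theorem dvd_of_roots {P : Kc[X]} {a b c : Kc} (hP : P = (X - C a) * ((X - C b) * (X - C c))) (hab : a ≠ b)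
    (hac : a ≠ c) (hbc : b ≠ c) {k : ℕ} {s : Kc} (ha : a ^ k = s) (hb : b ^ k = s) (hc : c ^ k = s) :
    P ∣ X ^ k - C s := by
  have hl : ∀ x : Kc, x ^ k = s → X - C x ∣ X ^ k - C s := fun x hx => by
    rw [dvd_iff_isRoot, IsRoot, eval_sub, eval_pow, eval_X, eval_C, hx, sub_self]
  have hcp : ∀ {x y : Kc}, x ≠ y → IsCoprime (X - C x) (X - C y) := fun h =>
    isCoprime_X_sub_C_of_isUnit_sub (sub_ne_zero.2 h).isUnit
  rw [hP]
  exact ((hcp hab).mul_right (hcp hac)).mul_dvd (hl a ha) ((hcp hbc).mul_dvd (hl b hb) (hl c hc))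

/-- The repeated eigenvalue case. -/
theorem dvd_of_double {p : ℕ} (hp : 3 ≤ p) [Fact p.Prime] [CharP Kc p] {P : Kc[X]} {a c : Kc}
    (hP : P = (X - C a) * ((X - C a) * (X - C c))) {k : ℕ} {s : Kc} (ha : a ^ k = s) (hc : c ^ k = s) :
    P ∣ X ^ (k * p) - C (s ^ p) := by
  have hl : ∀ x : Kc, x ^ k = s → X - C x ∣ X ^ k - C s := fun x hx => by
    rw [dvd_iff_isRoot, IsRoot, eval_sub, eval_pow, eval_X, eval_C, hx, sub_self]
  rw [hP, show (X : Kc[X]) ^ (k * p) - C (s ^ p) = (X ^ k - C s) ^ p by rw [sub_pow_char, ← pow_mul, map_pow]]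
  refine dvd_trans ?_ (pow_dvd_pow _ hp)
  rw [pow_succ, pow_two, mul_assoc]
  exact mul_dvd_mul (hl a ha) (mul_dvd_mul (hl a ha) (hl c hc))

/-- The possible scalar powers. -/
theorem power_scalar (hF : Fintype.card F = q ^ 2) (p : ℕ) [Fact p.Prime] [CharP F p] (hp : p ≠ 2)
    (M : Matrix (Fin 3) (Fin 3) F) (hM : cst (Classical.powConj hF) M * M = 1) (hd : M.det = 1) :
    ∃ k, k ∈ ({q + 1, p * (q + 1) / Nat.gcd 3 (q + 1), (q ^ 2 - 1) / Nat.gcd 3 (q + 1),
      (q ^ 2 - q + 1) / Nat.gcd 3 (q + 1)} : Set ℕ) ∧ ∃ z : F, M ^ k = z • 1 := by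
  classical
  haveI : CharP Kc p := charP_of_injective_algebraMap (algebraMap F Kc).injective p
  have hq2 := UnitarySingerOrder.q_two_le hF
  have hp3 : 3 ≤ p := by have := (Fact.out : p.Prime).two_le; omega
  obtain ⟨j, hj1, hj⟩ := UnitaryCommUnipotent.exists_q_eq_pow (p := p) hF
  have hinjq : ∀ x y : Kc, x ^ q = y ^ q → x = y := fun x y h => by
    rw [hj] at h
    exact (iterateFrobenius Kc p j).injective (by rw [iterateFrobenius_def, iterateFrobenius_def, h])
  set d := Nat.gcd 3 (q + 1) with hdd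
  have hd3 : d ∣ 3 := Nat.gcd_dvd_left _ _
  obtain ⟨e, he⟩ : d ∣ q + 1 := Nat.gcd_dvd_right _ _
  obtain ⟨t, ht⟩ := hd3
  have hd0 : 0 < d := Nat.gcd_pos_of_pos_left _ (by norm_num)
  have hk2 : p * (q + 1) / d = e * p := by
    rw [he, ← mul_assoc, mul_comm p d, mul_assoc, Nat.mul_div_cancel_left _ hd0, mul_comm]
  obtain ⟨a, b, c, hP, habc, hperm⟩ := roots_three hF M hM hd
  have hne : ∀ x ∈ ({a, b, c} : Set Kc), x ≠ 0 := by
    rintro x (rfl | rfl | rfl) rfl <;> simp at habc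
  -- the repeated eigenvalue
  have hdouble : ∀ u v : Kc, (M.map (algebraMap F Kc)).charpoly = (X - C u) * ((X - C u) * (X - C v)) →
      u * u * v = 1 → (∀ x ∈ ({u, v} : Set Kc), (x ^ q)⁻¹ ∈ ({u, v} : Set Kc) ∧ x ^ q ^ 2 ∈ ({u, v} : Set Kc)) →
      ∃ z : F, M ^ (e * p) = z • 1 := by
    intro u v hP' huv hper
    have hu0 : u ≠ 0 := fun h => by simp [h] at huv
    have hv : v = (u ^ 2)⁻¹ := eq_inv_of_mul_eq_one_left (by linear_combination huv)
    have huu : u ^ (q + 1) = 1 := by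
      rcases eq_or_ne v u with hvu | hvu
      · have h := (hper u (by simp)).1
        rw [hvu] at h
        simp at h
        rw [pow_succ]
        nth_rw 2 [← h]
        exact mul_inv_cancel₀ (pow_ne_zero _ hu0)
      · rcases (hper u (by simp)).1 with h | h
        · rw [pow_succ]
          nth_rw 2 [← h]
          exact mul_inv_cancel₀ (pow_ne_zero _ hu0)
        · exfalso
          simp only [Set.mem_singleton_iff] at h
          -- `v = u ^ (-q)`
          have h1 : u ^ q = u ^ 2 := inv_inj.1 (h.trans hv)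
          have h4 : (v ^ q)⁻¹ = u ^ 4 := by
            rw [hv, inv_pow, inv_inv, ← pow_mul, mul_comm, pow_mul, h1, ← pow_mul]
          rcases (hper v (by simp)).1 with h' | h'
          · rw [h4] at h'
            have h3 : u ^ 3 = 1 := mul_right_cancel₀ hu0 (by rw [← pow_succ, h', one_mul])
            apply hvu
            rw [hv]
            exact inv_eq_of_mul_eq_one_right (by linear_combination h3)
          · simp only [Set.mem_singleton_iff] at h'
            exact hvu (hinjq _ _ (inv_inj.1 (h'.trans h.symm)))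
    refine scalar_of_dvd M ((u ^ e) ^ p) (dvd_of_double hp3 hP' rfl ?_)
    rw [hv, inv_pow, ← pow_mul]
    apply inv_eq_of_mul_eq_one_left
    rw [← pow_add, show e + 2 * e = t * (q + 1) by rw [he, ← mul_assoc, mul_comm t d, ← ht]; ring, mul_comm, pow_mul,
      huu, one_pow]
  by_cases h3 : a ≠ b ∧ a ≠ c ∧ b ≠ c
  swap
  · refine ⟨e * p, by simp [hk2], ?_⟩
    rcases eq_or_ne a b with hab | hab
    · refine hdouble a c (by rw [hP, hab]) (by rw [← hab] at habc; rw [← habc]; ring) ?_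
      have : ({a, b, c} : Set Kc) = {a, c} := by rw [hab]; simp
      rwa [this] at hperm
    rcases eq_or_ne a c with hac | hac
    · refine hdouble a b (by rw [hP, hac]; ring) (by rw [← hac] at habc; rw [← habc]; ring) ?_
      have : ({a, b, c} : Set Kc) = {a, b} := by rw [← hac]; ext x; simp; tauto
      rwa [this] at hperm
    have hbc : b = c := not_not.1 fun h => h3 ⟨hab, hac, h⟩
    refine hdouble b a (by rw [hP, hbc]; ring) (by rw [← hbc] at habc; rw [← habc]; ring) ?_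
    have : ({a, b, c} : Set Kc) = {b, a} := by rw [hbc]; ext x; simp; tauto
    rwa [this] at hperm
  obtain ⟨hab, hac, hbc⟩ := h3
  let φ : Kc → Kc := fun x => (x ^ q)⁻¹
  have hφinj : ∀ x y, φ x = φ y → x = y := fun x y h => hinjq _ _ (inv_inj.1 h)
  have hfix : ∀ x, x ≠ 0 → φ x = x → x ^ (q + 1) = 1 := fun x hx h => by
    rw [pow_succ]
    nth_rw 2 [← h]
    exact mul_inv_cancel₀ (pow_ne_zero _ hx)
  -- one fixed eigenvalue and a pair
  have hpair : ∀ u v w : Kc, (M.map (algebraMap F Kc)).charpoly = (X - C u) * ((X - C v) * (X - C w)) →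
      u ≠ v → u ≠ w → v ≠ w → u * (v * w) = 1 → φ u = v → φ v = u →
      ∃ z : F, M ^ ((q ^ 2 - 1) / d) = z • 1 := by
    intro u v w hP' h1 h2 h3 huvw huv hvu
    have hu0 : u ≠ 0 := fun h => by simp [h] at huvw
    have hv : v = (u ^ q)⁻¹ := huv.symm
    have hu : u ^ (q ^ 2 - 1) = 1 := by
      have h4 : u ^ q ^ 2 = u := by
        have h5 : ((u ^ q)⁻¹ ^ q)⁻¹ = u := by rw [← hv]; exact hvu
        rwa [inv_pow, inv_inv, ← pow_mul, ← pow_two] at h5
      exact mul_right_cancel₀ hu0 (by rw [← pow_succ, Nat.sub_add_cancel (Nat.one_le_pow _ _ (by omega)), h4, one_mul])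
    have hw : w * u = u ^ q := by
      have : u * (v * w) * u ^ q = u ^ q := by rw [huvw, one_mul]
      rw [hv] at this
      field_simp at this
      linear_combination this
    obtain ⟨e', he'⟩ : d ∣ q ^ 2 - 1 := dvd_trans ⟨e, he⟩ ⟨q - 1, by rw [← Nat.sq_sub_sq, one_pow]⟩
    rw [he', Nat.mul_div_cancel_left _ hd0]
    refine scalar_of_dvd M (u ^ e') (dvd_of_roots hP' h1 h2 h3 rfl ?_ ?_)
    · rw [hv, inv_pow]
      apply inv_eq_of_mul_eq_one_left
      rw [← pow_mul, ← pow_add, show e' + q * e' = e * (d * e') by rw [← mul_assoc, mul_comm e d, ← he]; ring, ← he',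
        mul_comm, pow_mul, hu, one_pow]
    · apply mul_right_cancel₀ (pow_ne_zero e' hu0)
      rw [← mul_pow, hw, ← mul_pow, ← pow_mul]
      have e1 : u ^ ((q + 1) * e') = 1 := by
        rw [he, mul_comm d e, mul_assoc, ← he', mul_comm, pow_mul, hu, one_pow]
      have e2 : u ^ (3 * e') = 1 := by
        rw [ht, mul_comm d t, mul_assoc, ← he', mul_comm, pow_mul, hu, one_pow]
      calc u ^ (q * e') = u ^ (q * e') * u ^ (3 * e') := by rw [e2, mul_one]
        _ = u ^ ((q + 1) * e') * u ^ (2 * e') := by rw [← pow_add, ← pow_add]; congr 1; ring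
        _ = (u * u) ^ e' := by rw [e1, one_mul, pow_mul, pow_two]
  have hA := (hperm a (by simp)).1
  have hB := (hperm b (by simp)).1
  have hC := (hperm c (by simp)).1
  simp only [Set.mem_insert_iff, Set.mem_singleton_iff] at hA hB hC
  change φ a = a ∨ φ a = b ∨ φ a = c at hA
  change φ b = a ∨ φ b = b ∨ φ b = c at hB
  change φ c = a ∨ φ c = b ∨ φ c = c at hC
  have ha0 := hne a (by simp)
  have hb0 := hne b (by simp)
  have hc0 := hne c (by simp)
  -- the three cycle
  have hcyc : ∀ u v w : Kc, (M.map (algebraMap F Kc)).charpoly = (X - C u) * ((X - C v) * (X - C w)) →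
      u ≠ v → u ≠ w → v ≠ w → u * (v * w) = 1 → φ u = v → φ v = w →
      ∃ z : F, M ^ ((q ^ 2 - q + 1) / d) = z • 1 := by
    intro u v w hP' h1 h2 h3 huvw huv hvw
    have hu0 : u ≠ 0 := fun h => by simp [h] at huvw
    have hv : v = (u ^ q)⁻¹ := huv.symm
    have hw : w = u ^ q ^ 2 := by
      rw [← hvw]
      show (v ^ q)⁻¹ = _
      rw [hv, inv_pow, inv_inv, ← pow_mul, pow_two]
    obtain ⟨G, hG⟩ : ∃ G, G = q ^ 2 - q + 1 := ⟨_, rfl⟩
    have hG1 : G + q = q ^ 2 + 1 := by have := Nat.le_self_pow two_ne_zero q; omega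
    have hu : u ^ G = 1 := by
      apply mul_right_cancel₀ (pow_ne_zero q hu0)
      rw [one_mul, ← pow_add, hG1]
      rw [hv, hw] at huvw
      field_simp at huvw
      rw [pow_succ]
      linear_combination huvw
    have hdG : d ∣ G := by
      have h9 : G + 3 * q = (q + 1) * (q + 1) := by linear_combination hG1
      exact (Nat.dvd_add_left (dvd_mul_of_dvd_left (Nat.gcd_dvd_left 3 (q + 1)) q)).1
        (h9 ▸ dvd_mul_of_dvd_left ⟨e, he⟩ _)
    obtain ⟨g', hg'⟩ := hdG
    rw [← hG, hg', Nat.mul_div_cancel_left _ hd0]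
    refine scalar_of_dvd M (u ^ g') (dvd_of_roots hP' h1 h2 h3 rfl ?_ ?_)
    · rw [hv, inv_pow]
      apply inv_eq_of_mul_eq_one_left
      rw [← pow_mul, ← pow_add, show g' + q * g' = e * (d * g') by rw [← mul_assoc, mul_comm e d, ← he]; ring, ← hg',
        mul_comm, pow_mul, hu, one_pow]
    · rw [hw, ← pow_mul]
      obtain ⟨q', hq'⟩ : ∃ q', q = q' + 1 := ⟨q - 1, by omega⟩
      have e3 : q ^ 2 * g' = e * q' * (d * g') + g' := by
        rw [hq'] at he ⊢
        linear_combination (q' * g') * he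
      rw [e3, pow_add, ← hg', mul_comm (e * q') G, pow_mul, hu, one_pow, one_mul]
  rcases hA with ha | ha | ha
  · rcases hB with hb | hb | hb
    · exact absurd (hφinj _ _ (ha.trans hb.symm)) hab
    · rcases hC with hc | hc | hc
      · exact absurd (hφinj _ _ (ha.trans hc.symm)) hac
      · exact absurd (hφinj _ _ (hb.trans hc.symm)) hbc
      · refine ⟨q + 1, by simp, scalar_of_dvd M 1 (dvd_of_roots hP hab hac hbc (hfix a ha0 ha) (hfix b hb0 hb)
          (hfix c hc0 hc))⟩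
    · refine ⟨_, by simp, hpair b c a (by rw [hP]; ring) hbc hab.symm hac.symm (by rw [← habc]; ring) hb ?_⟩
      rcases hC with hc | hc | hc
      · exact absurd (hφinj _ _ (ha.trans hc.symm)) hac
      · exact hc
      · exact absurd (hφinj _ _ (hb.trans hc.symm)) hbc
  · rcases hB with hb | hb | hb
    · exact ⟨_, by simp, hpair a b c hP hab hac hbc habc ha hb⟩
    · exact absurd (hφinj _ _ (ha.trans hb.symm)) hab
    · exact ⟨_, by simp, hcyc a b c hP hab hac hbc habc ha hb⟩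
  · rcases hC with hc | hc | hc
    · exact ⟨_, by simp, hpair a c b (by rw [hP]; ring) hac hab hbc.symm (by rw [← habc]; ring) ha hc⟩
    · exact ⟨_, by simp, hcyc a c b (by rw [hP]; ring) hac hab hbc.symm (by rw [← habc]; ring) ha hc⟩
    · exact absurd (hφinj _ _ (ha.trans hc.symm)) hac

end Cfsg.Lib.UnitOrders

namespace Cfsg.Lib.UnitOrders

open Matrix Cfsg.Lib.UnitaryConj

universe v

variable {F : Type v} [Field F] [Fintype F] {q : ℕ}

/-- The element orders of `PSU (3, q)`. -/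
theorem spectrum_three (hF : Fintype.card F = q ^ 2) (p : ℕ) [Fact p.Prime] [CharP F p] (hp : p ≠ 2) :
    (∀ x : Cfsg.PSU 3 F q, ∃ k, k ∈ ({q + 1, p * (q + 1) / Nat.gcd 3 (q + 1), (q ^ 2 - 1) / Nat.gcd 3 (q + 1),
      (q ^ 2 - q + 1) / Nat.gcd 3 (q + 1)} : Set ℕ) ∧ orderOf x ∣ k) ∧
    ∀ k ∈ ({q + 1, p * (q + 1) / Nat.gcd 3 (q + 1), (q ^ 2 - 1) / Nat.gcd 3 (q + 1),
      (q ^ 2 - q + 1) / Nat.gcd 3 (q + 1)} : Set ℕ), ∃ x : Cfsg.PSU 3 F q, k ∣ orderOf x := by
  classical
  have hq2 := UnitarySingerOrder.q_two_le hF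
  refine ⟨fun x => ?_, ?_⟩
  · obtain ⟨X, rfl⟩ := QuotientGroup.mk_surjective x
    obtain ⟨k, hk, hz⟩ := power_scalar hF p hp _ ((mem_SU hF _).1 X.2) (X : SpecialLinearGroup (Fin 3) F).2
    exact ⟨k, hk, orderOf_dvd_of_pow_eq_one ((mk_pow_eq_one_iff hF (by norm_num) X k).2 hz)⟩
  obtain ⟨j, hj1, hj⟩ := UnitaryCommUnipotent.exists_q_eq_pow (p := p) hF
  set σ := Classical.powConj hF with hσ
  have hσq := Classical.powConj_apply hF
  have hd0 : 0 < Nat.gcd 3 (q + 1) := Nat.gcd_pos_of_pos_left _ (by norm_num)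
  have hcard : Nat.card Fˣ = q ^ 2 - 1 := by rw [Nat.card_units, Nat.card_eq_fintype_card, hF]
  obtain ⟨ζ, hζ⟩ := IsCyclic.exists_ofOrder_eq_natCard (α := Fˣ)
  rw [hcard] at hζ
  obtain ⟨a, ha⟩ : ∃ a : Fˣ, orderOf a = q + 1 :=
    ⟨ζ ^ (orderOf ζ / (q + 1)), orderOf_pow_orderOf_div (orderOf_pos ζ).ne'
      (hζ ▸ ⟨q - 1, by rw [← Nat.sq_sub_sq, one_pow]⟩)⟩
  have hau : (a : F) ^ q * a = 1 := by
    rw [← pow_succ, ← Units.val_pow_eq_pow_val, ← ha, pow_orderOf_eq_one, Units.val_one]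
  have hdiag : ∀ (d : Fin 3 → F) (k : ℕ) (z : F), diagonal d ^ k = z • (1 : Matrix (Fin 3) (Fin 3) F) →
      ∀ i, d i ^ k = z := by
    intro d k z h i
    rw [diagonal_pow, smul_one_eq_diagonal] at h
    exact congrFun (diagonal_injective h) i
  -- a multiple of the first index
  have c1 : ∃ x : Cfsg.PSU 3 F q, q + 1 ∣ orderOf x := by
    let D : Fin 3 → F := ![(a : F), 1, ((a⁻¹ : Fˣ) : F)]
    obtain ⟨X, hX⟩ := exists_SU_of hF (diagonal D) (by
      rw [cst, diagonal_map (map_zero σ), diagonal_transpose, diagonal_mul_diagonal, ← diagonal_one]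
      congr 1
      funext i
      fin_cases i
      · simp [D, hσ, hσq, hau]
      · simp [D, hσ]
      · simp [D, hσ, hσq, ← mul_inv, hau])
      (by rw [det_diagonal, Fin.prod_univ_three]; simp [D])
    refine ⟨X, ?_⟩
    obtain ⟨z, hz⟩ := (mk_pow_eq_one_iff hF (by norm_num) X _).1 (pow_orderOf_eq_one (X : Cfsg.PSU 3 F q))
    rw [hX] at hz
    have h1 := hdiag D _ z hz
    have e0 := h1 0
    have e1 := h1 1
    simp [D] at e0 e1
    rw [← ha]
    exact orderOf_dvd_of_pow_eq_one (Units.ext (by rw [Units.val_pow_eq_pow_val, e0, ← e1, Units.val_one]))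
  -- the mixed element
  have c2 : ∃ x : Cfsg.PSU 3 F q, p * (q + 1) / Nat.gcd 3 (q + 1) ∣ orderOf x := by
    haveI : Nonempty (Fin 2) := ⟨0⟩
    obtain ⟨U, hU, hU1, hU2⟩ := exists_regular (p := p) hF (show 1 ≤ 2 by norm_num)
    have hp1 := (Fact.out : p.Prime).two_le
    have hclog : Nat.clog p 2 = 1 := Nat.le_antisymm ((Nat.clog_le_iff_le_pow (by omega)).2 (by simpa using hp1))
      (Nat.clog_pos (by omega) (by norm_num))
    rw [hclog, pow_one] at hU1
    have hUne : U ≠ 1 := by simpa using hU2 0 (by simp)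
    have hUdet : U.det = 1 := by
      have h := congrArg Matrix.det hU1
      rw [det_pow, det_one] at h
      have h0 : (U.det - 1) ^ p = 0 := by rw [sub_pow_char, h, one_pow, sub_self]
      exact sub_eq_zero.1 (eq_zero_of_pow_eq_zero h0)
    let M := UnitarySemisimple.bd ((a : F) • U) ((((a⁻¹ : Fˣ) : F) ^ 2) • (1 : Matrix (Fin 1) (Fin 1) F))
    have hainv : σ (((a⁻¹ : Fˣ) : F)) * ((a⁻¹ : Fˣ) : F) = 1 := by
      rw [hσ, hσq, Units.val_inv_eq_inv_val, inv_pow, ← mul_inv, hau, inv_one]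
    obtain ⟨X, hX⟩ := exists_SU_of hF M (by
      rw [UnitarySemisimple.cst_bd, UnitarySemisimple.bd_mul, cst_smul, cst_smul, cst_one, smul_mul_assoc, mul_smul_comm,
        hU, smul_smul, smul_mul_assoc, mul_smul_comm, one_mul, smul_smul, ← hσ, map_pow, ← mul_pow, hainv, one_pow,
        hσq, hau, one_smul, one_smul, UnitarySemisimple.bd_one])
      (by
        rw [UnitarySemisimple.det_bd, det_smul, det_smul, det_one, hUdet, Fintype.card_fin, Fintype.card_fin, mul_one,
          mul_one, pow_one, ← mul_pow, Units.mul_inv, one_pow])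
    refine ⟨X, ?_⟩
    obtain ⟨z, hz⟩ := (mk_pow_eq_one_iff hF (by norm_num) X _).1 (pow_orderOf_eq_one (X : Cfsg.PSU 3 F q))
    set o := orderOf (X : Cfsg.PSU 3 F q)
    rw [hX, UnitarySemisimple.bd_pow, _root_.smul_pow, _root_.smul_pow, one_pow,
      show z • (1 : Matrix (Fin (2 + 1)) (Fin (2 + 1)) F) =
        UnitarySemisimple.bd (z • (1 : Matrix (Fin 2) (Fin 2) F)) (z • (1 : Matrix (Fin 1) (Fin 1) F)) by
        rw [← UnitarySemisimple.bd_one (a := 2) (b := 1)]
        simp only [UnitarySemisimple.bd, ← map_smul, fromBlocks_smul, smul_zero]] at hz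
    simp only [UnitarySemisimple.bd] at hz
    obtain ⟨h1, -, -, h2⟩ := fromBlocks_inj.1 ((Matrix.reindexAlgEquiv F F finSumFinEquiv).injective hz)
    have hz2 : (((a⁻¹ : Fˣ) : F) ^ 2) ^ o = z := by
      have := congrFun (congrFun h2 0) 0
      simpa using this
    have hao : (a : F) ^ o ≠ 0 := pow_ne_zero _ a.ne_zero
    have hUo : U ^ o = (((a : F) ^ o)⁻¹ * z) • (1 : Matrix (Fin 2) (Fin 2) F) := by
      rw [← smul_smul, ← h1, smul_smul, inv_mul_cancel₀ hao, one_smul]
    have hc1 : (((a : F) ^ o)⁻¹ * z) = 1 := by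
      have h3 : (U ^ o) ^ p = 1 := by rw [← pow_mul, mul_comm, pow_mul, hU1, one_pow]
      rw [hUo, _root_.smul_pow, one_pow] at h3
      have h4 : ((((a : F) ^ o)⁻¹ * z)) ^ p = 1 := by
        have := congrFun (congrFun h3 0) 0
        simpa using this
      have h0 : ((((a : F) ^ o)⁻¹ * z) - 1) ^ p = 0 := by rw [sub_pow_char, h4, one_pow, sub_self]
      exact sub_eq_zero.1 (eq_zero_of_pow_eq_zero h0)
    have hpo : p ∣ o := by
      have hord : orderOf U = p := orderOf_eq_prime hU1 hUne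
      rw [← hord]
      exact orderOf_dvd_of_pow_eq_one (by rw [hUo, hc1, one_smul])
    have h3o : q + 1 ∣ 3 * o := by
      rw [← ha]
      refine orderOf_dvd_of_pow_eq_one (Units.ext ?_)
      rw [Units.val_pow_eq_pow_val, Units.val_one, show 3 * o = o + 2 * o by ring, pow_add]
      have hzz : z = (a : F) ^ o := by
        have := congrArg (fun y => (a : F) ^ o * y) hc1
        simpa [← mul_assoc, hao] using this
      rw [← hzz, ← hz2, ← pow_mul, ← mul_pow, Units.inv_mul, one_pow]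
    obtain ⟨e, he⟩ : Nat.gcd 3 (q + 1) ∣ q + 1 := Nat.gcd_dvd_right _ _
    have heo : e ∣ o := by
      have hcop : Nat.Coprime e (3 / Nat.gcd 3 (q + 1)) := by
        have := (Nat.coprime_div_gcd_div_gcd (m := 3) (n := q + 1) hd0).symm
        rwa [show (q + 1) / Nat.gcd 3 (q + 1) = e by nth_rw 1 [he]; exact Nat.mul_div_cancel_left _ hd0] at this
      refine hcop.dvd_of_dvd_mul_left ?_
      obtain ⟨t, ht⟩ := Nat.gcd_dvd_left 3 (q + 1)
      rw [show 3 / Nat.gcd 3 (q + 1) = t by nth_rw 1 [ht]; exact Nat.mul_div_cancel_left _ hd0]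
      refine Nat.dvd_of_mul_dvd_mul_left hd0 ?_
      rw [← he, ← mul_assoc, ← ht]
      exact h3o
    rw [show p * (q + 1) / Nat.gcd 3 (q + 1) = p * e by
      nth_rw 1 [he]; rw [← mul_assoc, mul_comm p, mul_assoc, Nat.mul_div_cancel_left _ hd0]]
    have hpe : ¬ p ∣ e := fun h => by
      have h5 : p ∣ q + 1 := h.trans (Dvd.intro_left _ he.symm)
      have h6 : p ∣ q := hj ▸ dvd_pow_self p (by omega)
      exact (Fact.out : p.Prime).not_dvd_one ((Nat.dvd_add_right h6).1 h5)
    exact ((Fact.out : p.Prime).coprime_iff_not_dvd.2 hpe).mul_dvd_of_dvd_of_dvd hpo heo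
  -- the pair element
  have c3 : ∃ x : Cfsg.PSU 3 F q, (q ^ 2 - 1) / Nat.gcd 3 (q + 1) ∣ orderOf x := by
    let D : Fin 3 → F := ![(ζ : F), ((ζ : F) ^ q)⁻¹, (ζ : F) ^ (q - 1)]
    have hζ0 : (ζ : F) ≠ 0 := ζ.ne_zero
    have hζN : (ζ : F) ^ (q ^ 2 - 1) = 1 := by
      rw [← Units.val_pow_eq_pow_val, ← hζ, pow_orderOf_eq_one, Units.val_one]
    have hζq2 : (ζ : F) ^ q ^ 2 = ζ := by rw [← hF]; exact FiniteField.pow_card _
    have hSS : UnitarySemisimple.SS p (diagonal D) := by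
      refine ⟨q ^ 2 - 1, ?_, ?_⟩
      · rw [Nat.coprime_comm, (Fact.out : p.Prime).coprime_iff_not_dvd]
        intro h
        have h6 : p ∣ q ^ 2 := hj ▸ dvd_pow (dvd_pow_self p (by omega)) two_ne_zero
        have := Nat.dvd_sub h6 h
        rw [Nat.sub_sub_self (Nat.one_le_pow _ _ (by omega))] at this
        exact (Fact.out : p.Prime).not_dvd_one this
      · rw [diagonal_pow, ← diagonal_one]
        congr 1
        funext i
        fin_cases i <;> simp [D, inv_pow, ← pow_mul, hζN, mul_comm q, mul_comm (q - 1)] <;> simp [pow_mul, hζN]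
    have hinv : (cst σ (diagonal D))⁻¹ = diagonal ![((ζ : F) ^ q)⁻¹, (ζ : F), (ζ : F) ^ (q - 1)] := by
      refine Matrix.inv_eq_left_inv ?_
      rw [cst, diagonal_map (map_zero σ), diagonal_transpose, diagonal_mul_diagonal, ← diagonal_one]
      congr 1
      funext i
      fin_cases i
      · simp [D, hσ, hσq, hζ0]
      · simp [D, hσ, hσq, ← pow_mul, ← pow_two, hζq2, hζ0]
      · simp only [D, hσ, hσq]
        show (ζ : F) ^ (q - 1) * ((ζ : F) ^ (q - 1)) ^ q = 1
        rw [← pow_succ', ← pow_mul, show (q - 1) * (q + 1) = q ^ 2 - 1 by rw [mul_comm, ← Nat.sq_sub_sq, one_pow], hζN]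
    obtain ⟨Y, hY0, hY⟩ := UnitarySemisimple.exists_unitary (p := p) (σ := σ) (invol hF) (exists_moved hF)
      (show 0 < 3 by norm_num) hSS (by
        rw [hinv, charpoly_diagonal, charpoly_diagonal, Fin.prod_univ_three, Fin.prod_univ_three]
        simp [D, mul_comm])
    have hYu : IsUnit Y.det := isUnit_iff_ne_zero.2 hY0
    obtain ⟨X, hX⟩ := exists_SU_of hF (Y * diagonal D * Y⁻¹) hY (by
      rw [det_mul_right_comm, det_mul, mul_nonsing_inv Y hYu, det_one, one_mul, det_diagonal, Fin.prod_univ_three]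
      simp [D]
      obtain ⟨q', hq'⟩ : ∃ q', q = q' + 1 := ⟨q - 1, by omega⟩
      rw [hq', Nat.add_sub_cancel, pow_succ']
      field_simp)
    refine ⟨X, ?_⟩
    obtain ⟨z, hz⟩ := (mk_pow_eq_one_iff hF (by norm_num) X _).1 (pow_orderOf_eq_one (X : Cfsg.PSU 3 F q))
    set o := orderOf (X : Cfsg.PSU 3 F q)
    rw [hX] at hz
    obtain ⟨u, hu⟩ := (Matrix.isUnit_iff_isUnit_det _).2 hYu
    rw [← hu, ← Matrix.coe_units_inv, Units.conj_pow] at hz
    have hz' : diagonal D ^ o = z • (1 : Matrix (Fin 3) (Fin 3) F) := by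
      have := congrArg (fun A => ((u⁻¹ : (Matrix (Fin 3) (Fin 3) F)ˣ) : Matrix (Fin 3) (Fin 3) F) * A *
        (u : Matrix (Fin 3) (Fin 3) F)) hz
      simpa [mul_assoc, ← mul_assoc ((u⁻¹ : (Matrix (Fin 3) (Fin 3) F)ˣ) : Matrix (Fin 3) (Fin 3) F)] using this
    have h1 := hdiag D o z hz'
    have e0 := h1 0
    have e1 := h1 1
    have e2 := h1 2
    simp [D] at e0 e1 e2
    have d1 : (ζ : F) ^ (o * (q + 1)) = 1 := by
      rw [mul_add, mul_one, pow_add, e0, ← e1, mul_comm o, pow_mul]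
      exact mul_inv_cancel₀ (pow_ne_zero _ (pow_ne_zero _ hζ0))
    have d3 : (ζ : F) ^ (o * 3) = 1 := by
      obtain ⟨q', hq'⟩ : ∃ q', q = q' + 1 := ⟨q - 1, by omega⟩
      have h4 : (ζ : F) ^ (o * q) = z * z := by
        rw [show o * q = (q - 1) * o + o by rw [hq', Nat.add_sub_cancel]; ring, pow_add, pow_mul, e2, e0]
      rw [mul_add, mul_one, pow_add, e0, h4] at d1
      rw [pow_mul, e0]
      linear_combination d1
    have hdvd : q ^ 2 - 1 ∣ o * Nat.gcd 3 (q + 1) := by
      rw [← hζ, ← Nat.gcd_mul_left]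
      exact Nat.dvd_gcd (orderOf_dvd_of_pow_eq_one (Units.ext (by rw [Units.val_pow_eq_pow_val, d3, Units.val_one])))
        (orderOf_dvd_of_pow_eq_one (Units.ext (by rw [Units.val_pow_eq_pow_val, d1, Units.val_one])))
    obtain ⟨e, he⟩ : Nat.gcd 3 (q + 1) ∣ q ^ 2 - 1 :=
      (Nat.gcd_dvd_right _ _).trans ⟨q - 1, by rw [← Nat.sq_sub_sq, one_pow]⟩
    rw [he, Nat.mul_div_cancel_left _ hd0]
    refine Nat.dvd_of_mul_dvd_mul_left hd0 ?_
    rw [← he, mul_comm]
    exact hdvd
  have c4 : ∃ x : Cfsg.PSU 3 F q, (q ^ 2 - q + 1) / Nat.gcd 3 (q + 1) ∣ orderOf x := by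
    set L := q ^ 2 - q + 1 with hL
    have hL1 : L + q = q ^ 2 + 1 := by have := Nat.le_self_pow two_ne_zero q; omega
    have hLZ : (L : ℤ) * (q + 1) = (q : ℤ) ^ 3 - (-1) ^ 3 := by
      have : (L : ℤ) + q = q ^ 2 + 1 := by exact_mod_cast hL1
      linear_combination ((q : ℤ) + 1) * this
    have h9 : L + 3 * q = (q + 1) * (q + 1) := by linear_combination hL1
    have hg : Nat.gcd L (q + 1) = Nat.gcd 3 (q + 1) := by
      have h1 : ∀ g, g ∣ q + 1 → (g ∣ L ↔ g ∣ 3) := by
        intro g hg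
        constructor
        · intro h
          have h3 : g ∣ 3 * q := (Nat.dvd_add_right h).1 (h9 ▸ dvd_mul_of_dvd_left hg _)
          have hcop : Nat.Coprime g q := Nat.Coprime.coprime_dvd_left hg (by simp)
          exact hcop.dvd_of_dvd_mul_right h3
        · intro h
          exact (Nat.dvd_add_left (dvd_mul_of_dvd_left h q)).1 (h9 ▸ dvd_mul_of_dvd_left hg _)
      refine Nat.dvd_antisymm (Nat.dvd_gcd ((h1 _ (Nat.gcd_dvd_right _ _)).1 (Nat.gcd_dvd_left _ _)) (Nat.gcd_dvd_right _ _))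
        (Nat.dvd_gcd ((h1 _ (Nat.gcd_dvd_right _ _)).2 (Nat.gcd_dvd_left _ _)) (Nat.gcd_dvd_right _ _))
    obtain ⟨s, hs⟩ := exists_torus hF p (show 2 ≤ 3 by norm_num) hLZ rfl
    rw [hg] at hs
    exact ⟨s, hs⟩
  intro k hk
  simp only [Set.mem_insert_iff, Set.mem_singleton_iff] at hk
  rcases hk with rfl | rfl | rfl | rfl
  exacts [c1, c2, c3, c4]

end Cfsg.Lib.UnitOrders
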